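import Cfsg.Agent.H947.Cyc.Basic
import Cfsg.Agent.H947.El.Psl2
import Cfsg.Agent.S0262
import Cfsg.Agent.S0813

/-!
# Cyclic primes (helper947, for S3561 and S3679): `PSL₂(q)`

* `index_of_card` : `|Aut T| = k |T|`, `Z(T) = 1` ⇒ `|Out T| = k`
* `cyc_psl2` : the cyclic primes of `PSL₂(q)`
* `cgap_psl2` : every proper subgroup of `PSL₂(q)`, `q ≥ 4`, is missed by a cyclic prime, with exceptions for
  `q = 8`, `9`, `49` and the point stabilisers for `q` a Mersenne prime.
-/

set_option autoImplicit false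
set_option linter.style.haveILetI false

namespace Cfsg.Agent.H947.Cyc

open MulAction Subgroup Cfsg Cfsg.Agent.H396 Cfsg.Agent.H394.SqPsl2 Cfsg.Agent.H394.SqBasic Cfsg.Agent.H899.CG

theorem index_of_card {T : Type*} [Group T] [Finite T] (hc : center T = ⊥) {k : ℕ}
    (h : Nat.card (MulAut T) = k * Nat.card T) : (MulAut.conj : T →* MulAut T).range.index = k := by
  have hinj : Function.Injective (MulAut.conj : T →* MulAut T) := by
    rw [injective_iff_map_eq_one]
    intro g hg
    rw [← mem_bot, ← hc, mem_center_iff]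
    intro x
    have h2 := DFunLike.congr_fun hg x
    simp only [MulAut.conj_apply, MulAut.one_apply] at h2
    exact (mul_inv_eq_iff_eq_mul.1 h2).symm
  have h1 : Nat.card (MulAut.conj : T →* MulAut T).range = Nat.card T :=
    (Nat.card_congr (MonoidHom.ofInjective hinj).toEquiv).symm
  have h2 := (MulAut.conj : T →* MulAut T).range.card_mul_index
  rw [h1, h, mul_comm k] at h2
  exact Nat.eq_of_mul_eq_mul_left Nat.card_pos h2

/-! ### Numbers -/

theorem three_pow_add_one {b e : ℕ} (h : 3 ^ b + 1 = 2 ^ e) : b ≤ 1 := by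
  have h8 : (3 ^ b) % 8 = 1 ∨ (3 ^ b) % 8 = 3 := by
    clear h
    induction b with
    | zero => left; rfl
    | succ b ih =>
      rw [pow_succ]
      omega
  have he : e ≤ 2 := by
    by_contra h3
    have h4 : 2 ^ 3 ∣ 2 ^ e := pow_dvd_pow 2 (by omega)
    rw [← h] at h4
    omega
  by_contra hb
  have h1 : 3 ^ 2 ≤ 3 ^ b := Nat.pow_le_pow_right (by norm_num) (by omega)
  have h2 : 2 ^ e ≤ 2 ^ 2 := Nat.pow_le_pow_right (by norm_num) he
  omega

theorem two_pow_add_one {d e : ℕ} (h : 3 ^ d = 2 ^ e + 1) : d ≤ 2 := by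
  rcases Nat.even_or_odd d with hd | hd
  · obtain ⟨m, hm⟩ := hd
    have h1 : (3 ^ m + 1) * (3 ^ m - 1) = 2 ^ e := by
      have h2 := Nat.sq_sub_sq (3 ^ m) 1
      rw [one_pow, ← pow_mul, mul_two, ← hm, h, Nat.add_sub_cancel] at h2
      exact h2.symm
    have h2 : 3 ^ m + 1 ∣ 2 ^ e := ⟨_, h1.symm⟩
    obtain ⟨k, -, hk⟩ := (Nat.dvd_prime_pow Nat.prime_two).1 h2
    have := three_pow_add_one hk
    omega
  · have h8 : (3 ^ d) % 8 = 3 := by
      obtain ⟨m, rfl⟩ := hd
      rw [pow_succ, pow_mul, Nat.mul_mod, Nat.pow_mod]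
      norm_num
    have he : e ≤ 1 := by
      by_contra h3
      have h4 : 2 ^ 2 ∣ 2 ^ e := pow_dvd_pow 2 (by omega)
      omega
    by_contra hb
    have h1 : 3 ^ 2 ≤ 3 ^ d := Nat.pow_le_pow_right (by norm_num) (by omega)
    have h2 : 2 ^ e ≤ 2 ^ 1 := Nat.pow_le_pow_right (by norm_num) he
    omega

/-- `p - 1` and `p + 1` have only the prime divisors `2`, `3` -/
theorem smooth_pair {p : ℕ} (hp : p.Prime) (h : ∀ r : ℕ, r.Prime → r ∣ (p + 1) * (p - 1) → r = 2 ∨ r = 3) :
    p = 2 ∨ p = 3 ∨ p = 5 ∨ p = 7 ∨ p = 17 := by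
  by_cases h2 : p = 2
  · exact Or.inl h2
  by_cases h3 : p = 3
  · exact Or.inr (Or.inl h3)
  have hge := hp.two_le
  have hodd : p % 2 = 1 := by
    rcases hp.eq_two_or_odd with h | h
    · exact absurd h h2
    · exact h
  have hp3 : ¬ 3 ∣ p := fun hd => h3 ((Nat.prime_dvd_prime_iff_eq Nat.prime_three hp).1 hd).symm
  by_cases h31 : 3 ∣ p + 1
  · -- `p - 1` is a power of `2`
    have h1 : p - 1 = 2 ^ (p - 1).primeFactorsList.length := by
      apply Nat.eq_prime_pow_of_unique_prime_dvd (by omega)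
      intro d hd hdN
      rcases h d hd (hdN.mul_left _) with h4 | h4
      · exact h4
      · rw [h4] at hdN; omega
    generalize (p - 1).primeFactorsList.length = a at h1
    have ha : 2 ≤ a := by
      by_contra hcon
      have : 2 ^ a ≤ 2 ^ 1 := Nat.pow_le_pow_right (by norm_num) (by omega)
      omega
    obtain ⟨c, rfl⟩ : ∃ c, a = c + 2 := ⟨a - 2, by omega⟩
    have h4 : p + 1 = 2 * (2 ^ (c + 1) + 1) := by
      have : 2 ^ (c + 2) = 2 * 2 ^ (c + 1) := by rw [pow_succ]; ring
      omega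
    have h5 : 2 ^ (c + 1) + 1 = 3 ^ (2 ^ (c + 1) + 1).primeFactorsList.length := by
      apply Nat.eq_prime_pow_of_unique_prime_dvd (by omega)
      intro d hd hdN
      rcases h d hd ((h4 ▸ hdN.mul_left 2).mul_right _) with h6 | h6
      · exfalso
        rw [h6] at hdN
        have : 2 ∣ 2 ^ (c + 1) := dvd_pow_self 2 (by omega)
        omega
      · exact h6
    generalize (2 ^ (c + 1) + 1).primeFactorsList.length = d at h5
    have h6 := two_pow_add_one h5.symm
    rw [h5] at h4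
    have : d = 0 ∨ d = 1 ∨ d = 2 := by omega
    rcases this with rfl | rfl | rfl <;> omega
  · -- `p + 1` is a power of `2`
    have h1 : p + 1 = 2 ^ (p + 1).primeFactorsList.length := by
      apply Nat.eq_prime_pow_of_unique_prime_dvd (by omega)
      intro d hd hdN
      rcases h d hd (hdN.mul_right _) with h4 | h4
      · exact h4
      · rw [h4] at hdN; omega
    generalize (p + 1).primeFactorsList.length = a at h1
    have ha : 3 ≤ a := by
      by_contra hcon
      have : 2 ^ a ≤ 2 ^ 2 := Nat.pow_le_pow_right (by norm_num) (by omega)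
      omega
    obtain ⟨c, rfl⟩ : ∃ c, a = c + 3 := ⟨a - 3, by omega⟩
    have h0 : 0 < 2 ^ (c + 2) := by positivity
    have h2e : 2 ∣ 2 ^ (c + 2) := dvd_pow_self 2 (by omega)
    have h4 : p - 1 = 2 * (2 ^ (c + 2) - 1) := by
      have : 2 ^ (c + 3) = 2 * 2 ^ (c + 2) := by rw [pow_succ]; ring
      omega
    have h5 : 2 ^ (c + 2) - 1 = 3 ^ (2 ^ (c + 2) - 1).primeFactorsList.length := by
      apply Nat.eq_prime_pow_of_unique_prime_dvd (by omega)
      intro d hd hdN
      rcases h d hd ((h4 ▸ hdN.mul_left 2).mul_left _) with h6 | h6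
      · exfalso
        rw [h6] at hdN
        omega
      · exact h6
    generalize (2 ^ (c + 2) - 1).primeFactorsList.length = d at h5
    have h6 : d ≤ 1 := three_pow_add_one (e := c + 2) (by omega)
    rw [h5] at h4
    have : d = 0 ∨ d = 1 := by omega
    rcases this with rfl | rfl <;> omega

section

variable {F : Type*} [Field F] [Fintype F]

theorem psl2_facts (hF : 4 ≤ Fintype.card F) : IsSimpleGroup (Matrix.ProjectiveSpecialLinearGroup (Fin 2) F) ∧
    center (Matrix.ProjectiveSpecialLinearGroup (Fin 2) F) = ⊥ := by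
  rw [← Nat.card_eq_fintype_card] at hF
  have hs : IsSimpleGroup (Matrix.ProjectiveSpecialLinearGroup (Fin 2) F) :=
    Matrix.ProjectiveSpecialLinearGroup.rank_two_simple hF
  have hfc : ∃ a : F, a ≠ 0 ∧ a ^ 2 ≠ 1 := by
    obtain ⟨x, hx⟩ : IsCyclic Fˣ := by infer_instance
    refine ⟨x, Units.ne_zero x, fun h ↦ ?_⟩
    grw [Nat.card_eq_card_units_add_one F, ← orderOf_eq_card_of_forall_mem_zpowers hx,
      orderOf_le_of_pow_eq_one zero_lt_two (Units.ext <| by simpa using h)] at hF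
    omega
  have hperf : commutator (Matrix.ProjectiveSpecialLinearGroup (Fin 2) F) = ⊤ :=
    SL2Simple.PSL_commutator_eq_top hfc
  refine ⟨hs, ?_⟩
  rcases hs.eq_bot_or_eq_top_of_normal (center (Matrix.ProjectiveSpecialLinearGroup (Fin 2) F)) inferInstance with h | h
  · exact h
  · exfalso
    have h5 : Group.IsSolvable (Matrix.ProjectiveSpecialLinearGroup (Fin 2) F) :=
      Group.isSolvable_of_comm fun a b => by
        have := mem_center_iff.1 (h ▸ mem_top b : b ∈ center (Matrix.ProjectiveSpecialLinearGroup (Fin 2) F)) a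
        exact this
    have h4 := Group.IsSolvable.commutator_lt_top_of_nontrivial (Matrix.ProjectiveSpecialLinearGroup (Fin 2) F)
    rw [hperf] at h4
    exact lt_irrefl _ h4

/-- `|Out(PSL₂(p^N))| = d N` -/
theorem out_psl2 (h4 : 4 ≤ Fintype.card F) {p N : ℕ} (hp : p.Prime) (hN : Fintype.card F = p ^ N) :
    (MulAut.conj : Matrix.ProjectiveSpecialLinearGroup (Fin 2) F →* _).range.index =
      N * Nat.gcd 2 (Fintype.card F - 1) := by
  have : Fact p.Prime := ⟨hp⟩
  have hfin : Finite (Matrix.ProjectiveSpecialLinearGroup (Fin 2) F) := Quotient.finite _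
  have hN0 : 1 ≤ N := by
    rcases Nat.eq_zero_or_pos N with rfl | h
    · rw [pow_zero] at hN; omega
    · exact h
  refine index_of_card (psl2_facts h4).2 ?_
  rw [Cfsg.Agent.S0813.result p N hN0 hN 2 le_rfl (fun _ => hN ▸ h4), if_pos rfl, one_mul, card_pgl, mul_assoc, card_psl]

/-- primes with cyclic Sylow subgroups -/
theorem cycW_psl2 {p : ℕ} [Fact p.Prime] [CharP F p] {u : ℕ} (hu : u.Prime) (hu2 : u ≠ 2) (hup : u ≠ p)
    (hd : u ∣ Nat.card (Matrix.ProjectiveSpecialLinearGroup (Fin 2) F)) :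
    CycW (Matrix.ProjectiveSpecialLinearGroup (Fin 2) F) u := by
  have : Fact u.Prime := ⟨hu⟩
  have hfin : Finite (Matrix.ProjectiveSpecialLinearGroup (Fin 2) F) := Quotient.finite _
  refine cycW_of_sylow hd fun P => ?_
  have hs : Function.Surjective (QuotientGroup.mk' (center (Matrix.SpecialLinearGroup (Fin 2) F))) :=
    QuotientGroup.mk'_surjective _
  obtain ⟨Q, hQ⟩ := Sylow.mapSurjective_surjective hs u P
  have hc := Cfsg.Agent.S0262.result p u hu2 hup Q
  rw [← hQ, Sylow.coe_mapSurjective]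
  exact isCyclic_of_surjective _ ((QuotientGroup.mk' (center (Matrix.SpecialLinearGroup (Fin 2) F))).subgroupMap_surjective Q)

/-- the cyclic primes different from the characteristic -/
theorem cyc_psl2 (h4 : 4 ≤ Fintype.card F) {p N : ℕ} [hp : Fact p.Prime] [CharP F p] (hN : Fintype.card F = p ^ N) {u : ℕ}
    (hu : u.Prime) (hu2 : u ≠ 2) (hup : u ≠ p) (hd : u ∣ (Fintype.card F + 1) * (Fintype.card F - 1)) (ho : ¬ u ∣ N) :
    Cyc (Matrix.ProjectiveSpecialLinearGroup (Fin 2) F) u := by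
  refine ⟨cycW_psl2 (p := p) hu hu2 hup ?_, Or.inl fun h => ?_⟩
  · have h1 : u ∣ Nat.gcd 2 (Fintype.card F - 1) * Nat.card (Matrix.ProjectiveSpecialLinearGroup (Fin 2) F) := by
      rw [card_psl, sub_mul_self (by omega)]
      exact hd.mul_left _
    refine (hu.dvd_mul.1 h1).resolve_left fun h2 => ?_
    exact hu2 ((Nat.prime_dvd_prime_iff_eq hu Nat.prime_two).1 (h2.trans (Nat.gcd_dvd_left _ _)))
  · rw [out_psl2 h4 hp.out hN] at h
    rcases hu.dvd_mul.1 h with h2 | h2
    · exact ho h2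
    · exact hu2 ((Nat.prime_dvd_prime_iff_eq hu Nat.prime_two).1 (h2.trans (Nat.gcd_dvd_left _ _)))

/-- the characteristic is a cyclic prime for prime fields -/
theorem cyc_psl2_char (h4 : 4 ≤ Fintype.card F) {p : ℕ} (hp : p.Prime) (hN : Fintype.card F = p) :
    Cyc (Matrix.ProjectiveSpecialLinearGroup (Fin 2) F) p := by
  have hfin : Finite (Matrix.ProjectiveSpecialLinearGroup (Fin 2) F) := Quotient.finite _
  have hcard := card_psl (F := F)
  rw [sub_mul_self (by omega), hN] at hcard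
  have hp1 : ¬ p ∣ p + 1 := fun h => hp.one_lt.ne' (Nat.dvd_one.1 ((Nat.dvd_add_right dvd_rfl).1 h))
  have hp2 : ¬ p ∣ p - 1 := by
    intro h3
    have h5 := Nat.le_of_dvd (by omega) h3
    omega
  have hg : ¬ p ∣ Nat.gcd 2 (p - 1) := by
    intro h
    have := Nat.le_of_dvd (by norm_num) (h.trans (Nat.gcd_dvd_left _ _))
    omega
  refine cyc_of_sq hp ?_ ?_
  · have h1 : p ∣ Nat.gcd 2 (p - 1) * Nat.card (Matrix.ProjectiveSpecialLinearGroup (Fin 2) F) := by
      rw [hcard]; exact dvd_mul_right _ _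
    exact (hp.dvd_mul.1 h1).resolve_left hg
  · intro h
    have h1 : p ^ 2 ∣ p * ((p + 1) * (p - 1)) := by rw [← hcard]; exact h.mul_left _
    rw [pow_two] at h1
    have h2 := Nat.dvd_of_mul_dvd_mul_left hp.pos h1
    rcases hp.dvd_mul.1 h2 with h3 | h3
    · exact hp1 h3
    · exact hp2 h3

/-- **`PSL₂(q)`**: a proper subgroup is missed by a cyclic prime, with exceptions -/
theorem cgap_psl2 (h4 : 4 ≤ Fintype.card F) (M : Subgroup (Matrix.ProjectiveSpecialLinearGroup (Fin 2) F)) (hM : M ≠ ⊤) :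
    CGap (Matrix.ProjectiveSpecialLinearGroup (Fin 2) F) M ∨
      (Fintype.card F = 8 ∧ Nat.card M ∣ 56) ∨ (Fintype.card F = 9 ∧ Nat.card M ∣ 60) ∨
      (Fintype.card F = 49 ∧ Nat.card M = 60) ∨
      ((Fintype.card F).Prime ∧ (∃ k, Fintype.card F + 1 = 2 ^ k) ∧
        2 * Nat.card M ∣ Fintype.card F * (Fintype.card F - 1)) := by
  classical
  by_contra hcon
  simp only [not_or] at hcon
  obtain ⟨hD, hE8, hE9, hE49, hEm⟩ := hcon
  obtain ⟨q, hq⟩ : ∃ q, Fintype.card F = q := ⟨_, rfl⟩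
  obtain ⟨p, hchar⟩ := CharP.exists F
  have hp : Fact p.Prime := ⟨CharP.char_is_prime F p⟩
  obtain ⟨⟨N, hN0⟩, hpN, hN⟩ := FiniteField.card F p
  simp only [PNat.mk_coe] at hN
  have hcard := card_psl (F := F)
  have : Finite (Matrix.ProjectiveSpecialLinearGroup (Fin 2) F) := Quotient.finite _
  have hcyc : ∀ u : ℕ, u.Prime → u ≠ 2 → u ≠ p → u ∣ (Fintype.card F + 1) * (Fintype.card F - 1) → ¬ u ∣ N →
      u ∣ Nat.card M := fun u hu hu2 hup hd ho => dvd_of_not_cGap hD (cyc_psl2 h4 hN hu hu2 hup hd ho)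
  have hpc : N = 1 → p ∣ Nat.card M := fun h1 =>
    dvd_of_not_cGap hD (cyc_psl2_char h4 hp.out (by rw [hN, h1, pow_one]))
  have hidx0 : M.index ≠ 0 := index_ne_zero_of_finite
  have hmul := M.card_mul_index
  have hidx1 : M.index ≠ 1 := fun h => hM (index_eq_one.1 h)
  have hTpos : 0 < Nat.card (Matrix.ProjectiveSpecialLinearGroup (Fin 2) F) := Nat.card_pos
  have hMpos : 0 < Nat.card M := Nat.card_pos
  have hdick := Cfsg.Agent.S0799.result hq p M
  have hindN := fun P => Cfsg.Agent.H436.TT.index_normalizer (F := F) p P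
  rw [hq] at hcard h4 hN hcyc hE8 hE9 hE49 hEm
  have hpq : p ∣ q := by rw [hN]; exact dvd_pow_self p hN0.ne'
  obtain ⟨d, hd⟩ : ∃ d, Nat.gcd 2 (q - 1) = d := ⟨_, rfl⟩
  rw [hd] at hcard hdick
  have hd2 : d ∣ 2 := hd ▸ Nat.gcd_dvd_left _ _
  have hdpos : 0 < d := Nat.pos_of_dvd_of_pos hd2 (by norm_num)
  have hdle : d ≤ 2 := Nat.le_of_dvd (by norm_num) hd2
  obtain ⟨t, ht⟩ : ∃ t, Nat.card (Matrix.ProjectiveSpecialLinearGroup (Fin 2) F) = t := ⟨_, rfl⟩
  obtain ⟨μ, hμ⟩ : ∃ μ, Nat.card M = μ := ⟨_, rfl⟩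
  obtain ⟨ι, hι⟩ : ∃ ι, M.index = ι := ⟨_, rfl⟩
  rw [ht] at hcard hmul hTpos
  rw [hμ] at hcyc hmul hMpos hpc hE8 hE9 hE49 hEm
  rw [hι] at hmul hidx0 hidx1
  have hfac := sub_mul_self (q := q) (by omega)
  rw [hfac] at hcard
  have hp1 : ¬ p ∣ q + 1 := fun h => hp.out.one_lt.ne' (Nat.dvd_one.1 ((Nat.dvd_add_right hpq).1 h))
  have hp2 : ¬ p ∣ q - 1 := by
    intro h3
    have h5 : p ∣ q - (q - 1) := Nat.dvd_sub hpq h3
    rw [Nat.sub_sub_self (by omega)] at h5
    exact hp.out.one_lt.ne' (Nat.dvd_one.1 h5)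
  have hp5 : N = 1 → 5 ≤ p ∧ p = q := by
    intro h1
    rw [h1, pow_one] at hN
    refine ⟨?_, hN.symm⟩
    rcases Nat.lt_or_ge 4 p with h | h
    · exact h
    · exfalso
      have : p = 4 := by omega
      rw [this] at hp
      exact absurd hp.out (by norm_num)
  have hne : ∀ u : ℕ, u ∣ q + 1 → u ≠ p := fun u h1 h2 => hp1 (h2 ▸ h1)
  have hne' : ∀ u : ℕ, u ∣ q - 1 → u ≠ p := fun u h1 h2 => hp2 (h2 ▸ h1)
  have hnd : ∀ u : ℕ, u.Prime → 2 * N < u → ¬ u ∣ N := fun u hu h1 h2 => by
    have := Nat.le_of_dvd hN0 h2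
    omega
  -- the prime `r`
  have hF1 : q ≠ 8 → ¬ (N = 1 ∧ ∃ k, q + 1 = 2 ^ k) → ∃ r : ℕ, r.Prime ∧ r ≠ 2 ∧ r ∣ q + 1 ∧ r ∣ μ ∧ ¬ r ∣ p ∧
      (2 ≤ N → 2 * N < r ∧ ∀ j, r ∣ p ^ j - 1 ↔ 2 * N ∣ j) := by
    intro hq8 hnm
    rcases Nat.lt_or_ge N 2 with h1 | h1
    · have hN1 : N = 1 := by omega
      have hnk : ¬ ∃ k, q + 1 = 2 ^ k := fun h => hnm ⟨hN1, h⟩
      obtain ⟨r, hr, hrd, hr2⟩ : ∃ r : ℕ, r.Prime ∧ r ∣ q + 1 ∧ r ≠ 2 := by
        by_contra hc
        push Not at hc
        apply hnk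
        exact ⟨_, Nat.eq_prime_pow_of_unique_prime_dvd (by omega) fun {d} hd' hdd => hc d hd' hdd⟩
      refine ⟨r, hr, hr2, hrd, hcyc r hr hr2 (hne r hrd) (hrd.mul_right _) ?_, ?_, fun h => by omega⟩
      · rw [hN1]; exact fun h => hr.one_lt.ne' (Nat.dvd_one.1 h)
      · intro h
        exact hne r hrd ((Nat.prime_dvd_prime_iff_eq hr hp.out).1 h)
    · obtain ⟨r, hr, hr1, hr2, hr3⟩ := Cfsg.Agent.Lib.Zsigmondy.exists_primitive (a := p) (n := 2 * N) hp.out.two_le
        (by omega) (by omega) (by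
          rintro ⟨h2, h6⟩
          apply hq8
          rw [hN, h2, show N = 3 by omega]; norm_num)
      have hgt : 2 * N < r := by
        have := Nat.le_of_dvd (by have := hr.two_le; omega) hr2
        have := hr.two_le
        omega
      have hrd : r ∣ q + 1 := by
        have h2 : r ∣ q ^ 2 - 1 := by rw [hN, ← pow_mul]; exact (hr1 _).2 (by rw [mul_comm])
        rw [hfac] at h2
        refine (hr.dvd_mul.1 h2).resolve_right fun h3 => ?_
        rw [hN] at h3
        have := Nat.le_of_dvd hN0 ((hr1 _).1 h3)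
        omega
      exact ⟨r, hr, by omega, hrd, hcyc r hr (by omega) (hne r hrd) (hrd.mul_right _) (hnd r hr hgt), hr3,
        fun _ => ⟨hgt, hr1⟩⟩
  -- the prime `s`
  have hF2 : 2 ≤ N → q ≠ 9 → q ≠ 4 → ∃ s : ℕ, s.Prime ∧ s ≠ 2 ∧ s ∣ q - 1 ∧ s ∣ μ := by
    intro hN2 hq9 hq4
    by_cases h64 : p = 2 ∧ N = 6
    · obtain ⟨h1, h2⟩ := h64
      have hq64 : q = 64 := by rw [hN, h1, h2]; norm_num
      refine ⟨7, by norm_num, by norm_num, by rw [hq64]; norm_num, hcyc 7 (by norm_num) (by norm_num) (by omega)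
        (by rw [hq64]; norm_num) (by rw [h2]; norm_num)⟩
    by_cases h22 : N = 2
    · -- `q = p²`
      have hq2 : q = p ^ 2 := by rw [hN, h22]
      have hp3 : 3 ≤ p := by
        have := hp.out.two_le
        by_contra h
        have : p = 2 := by omega
        rw [this] at hq2
        omega
      obtain ⟨s, hs, hsd, hs2⟩ : ∃ s : ℕ, s.Prime ∧ s ∣ q - 1 ∧ s ≠ 2 := by
        by_contra hc
        push Not at hc
        -- `p - 1`, `p + 1` are powers of two
        have h5 : q - 1 = (p + 1) * (p - 1) := by rw [hq2]; exact sub_mul_self (by omega)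
        have h6 := smooth_pair hp.out (fun r hr hrd => Or.inl (hc r hr (h5 ▸ hrd)))
        have h7 : p = 3 ∨ p = 5 ∨ p = 7 ∨ p = 17 := by omega
        rcases h7 with h7 | h7 | h7 | h7
        · apply hq9; rw [hq2, h7]; norm_num
        · have := hc 3 (by norm_num) (by rw [hq2, h7]; norm_num)
          omega
        · have := hc 3 (by norm_num) (by rw [hq2, h7]; norm_num)
          omega
        · have := hc 3 (by norm_num) (by rw [hq2, h7]; norm_num)
          omega
      refine ⟨s, hs, hs2, hsd, hcyc s hs hs2 (hne' s hsd) (hsd.mul_left _) ?_⟩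
      rw [h22]
      exact fun h => hs2 ((Nat.prime_dvd_prime_iff_eq hs Nat.prime_two).1 h)
    · obtain ⟨s, hs, hs1, hs2, hs3⟩ := Cfsg.Agent.Lib.Zsigmondy.exists_primitive (a := p) (n := N) hp.out.two_le
        hN2 (by omega) (by rintro ⟨h2, h6⟩; exact h64 ⟨h2, h6⟩)
      have hgt : N < s := by
        have := Nat.le_of_dvd (by have := hs.two_le; omega) hs2
        have := hs.two_le
        omega
      have hsd : s ∣ q - 1 := by rw [hN]; exact (hs1 _).2 dvd_rfl
      exact ⟨s, hs, by omega, hsd, hcyc s hs (by omega) (hne' s hsd) (hsd.mul_left _) fun h => by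
        have := Nat.le_of_dvd hN0 h
        omega⟩
  -- not both `q + 1`, `q - 1`
  have hboth : ∀ u : ℕ, u.Prime → u ≠ 2 → u ∣ q + 1 → ¬ u ∣ q - 1 := by
    intro u hu hu2 h1 h2
    have h3 : u ∣ (q + 1) - (q - 1) := Nat.dvd_sub h1 h2
    rw [show (q + 1) - (q - 1) = 2 by omega] at h3
    exact hu2 ((Nat.prime_dvd_prime_iff_eq hu Nat.prime_two).1 h3)
  have h7of : q = 8 → 7 ∣ μ := by
    intro h8
    have h1 : p = 2 := by
      have h2 : p ∣ 2 ^ 3 := by rw [show (2 : ℕ) ^ 3 = 8 by norm_num, ← h8]; exact hpq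
      exact (Nat.prime_dvd_prime_iff_eq hp.out Nat.prime_two).1 (hp.out.dvd_of_dvd_pow h2)
    have h2 : N = 3 := by
      rw [h1, h8] at hN
      exact (Nat.pow_right_injective le_rfl (show 2 ^ N = 2 ^ 3 by rw [← hN]))
    exact hcyc 7 (by norm_num) (by norm_num) (by rw [h1]; norm_num) (by rw [h8]; norm_num) (by rw [h2]; norm_num)
  -- `μ` has a prime divisor `≥ 5`
  have hbig : ∀ k, (∀ r : ℕ, r.Prime → 5 ≤ r → ¬ r ∣ k) → μ ≠ k := by
    rintro k hk rfl
    by_cases hN1 : N = 1
    · obtain ⟨h1, h2⟩ := hp5 hN1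
      exact hk p hp.out h1 (hpc hN1)
    · by_cases h8 : q = 8
      · exact hk 7 (by norm_num) (by norm_num) (h7of h8)
      · obtain ⟨r, hr, -, -, hrμ, -, hr2⟩ := hF1 h8 (fun h => hN1 h.1)
        have := (hr2 (by omega)).1
        exact hk r hr (by omega) hrμ
  rcases hdick with ⟨k, hk, hk'⟩ | ⟨P, K, hK, ⟨e⟩⟩ | ⟨⟨e⟩⟩ | ⟨⟨e⟩⟩ | ⟨⟨e⟩⟩ | ⟨K, iK, iK', m, hm, he⟩
  · -- cyclic and dihedral groups
    have hμk : μ ∣ 2 * k := by
      rcases hk' with ⟨-, h⟩ | ⟨⟨e⟩⟩
      · rw [← hμ, h]; exact Dvd.intro_left 2 rfl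
      · rw [← hμ, Nat.card_congr e.toEquiv, DihedralGroup.nat_card]
    have hdq : d ∣ q + 1 := by
      rcases (Nat.dvd_prime Nat.prime_two).1 hd2 with h1 | h1
      · rw [h1]; exact one_dvd _
      · rw [h1]
        have h2 : 2 ∣ q - 1 := by rw [← h1, ← hd]; exact Nat.gcd_dvd_right _ _
        omega
    have hdq' : d ∣ q - 1 := hd ▸ Nat.gcd_dvd_right _ _
    by_cases hN1 : N = 1
    · obtain ⟨h1, h2⟩ := hp5 hN1
      have h3 := (hpc hN1).trans hμk
      rcases hp.out.dvd_mul.1 h3 with h4 | h4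
      · have := Nat.le_of_dvd (by norm_num) h4
        omega
      · rcases hk with h | h
        · exact hp1 ((h4.trans h).trans (Nat.div_dvd_of_dvd hdq))
        · exact hp2 ((h4.trans h).trans (Nat.div_dvd_of_dvd hdq'))
    rcases hk with h | h
    · -- `k ∣ (q + 1) / d`
      by_cases hq9 : q = 9
      · apply hE9
        refine ⟨hq9, ?_⟩
        rw [hq9] at hd h
        norm_num at hd
        rw [← hd] at h
        norm_num at h
        refine hμk.trans ?_
        exact (Nat.mul_dvd_mul_left 2 h).trans (by norm_num)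
      by_cases hq4 : q = 4
      · -- `q = 4`
        have h1 : p = 2 := by
          have h2 : p ∣ 2 ^ 2 := by rw [show (2 : ℕ) ^ 2 = 4 by norm_num, ← hq4]; exact hpq
          exact (Nat.prime_dvd_prime_iff_eq hp.out Nat.prime_two).1 (hp.out.dvd_of_dvd_pow h2)
        have h2 : N = 2 := by
          rw [h1, hq4] at hN
          exact (Nat.pow_right_injective le_rfl (show 2 ^ N = 2 ^ 2 by rw [← hN]))
        have h3 : 3 ∣ μ := hcyc 3 (by norm_num) (by norm_num) (by rw [h1]; norm_num) (by rw [hq4]; norm_num)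
          (by rw [h2]; norm_num)
        rw [hq4] at hd h
        norm_num at hd
        rw [← hd] at h
        norm_num at h
        have h5 := h3.trans (hμk.trans (Nat.mul_dvd_mul_left 2 h))
        revert h5; norm_num
      obtain ⟨s, hs, hs2, hsd, hsμ⟩ := hF2 (by omega) hq9 hq4
      rcases hs.dvd_mul.1 (hsμ.trans hμk) with h1 | h1
      · exact hs2 ((Nat.prime_dvd_prime_iff_eq hs Nat.prime_two).1 h1)
      · exact hboth s hs hs2 ((h1.trans h).trans (Nat.div_dvd_of_dvd hdq)) hsd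
    · -- `k ∣ (q - 1) / d`
      by_cases hq8 : q = 8
      · apply hE8
        refine ⟨hq8, ?_⟩
        rw [hq8] at hd h
        norm_num at hd
        rw [← hd] at h
        norm_num at h
        refine hμk.trans ?_
        exact (Nat.mul_dvd_mul_left 2 h).trans (by norm_num)
      obtain ⟨r, hr, hr2, hrd, hrμ, -, -⟩ := hF1 hq8 (fun h => hN1 h.1)
      rcases hr.dvd_mul.1 (hrμ.trans hμk) with h1 | h1
      · exact hr2 ((Nat.prime_dvd_prime_iff_eq hr Nat.prime_two).1 h1)
      · exact hboth r hr hr2 hrd ((h1.trans h).trans (Nat.div_dvd_of_dvd hdq'))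
  · -- Borel subgroups
    have h1 := hindN P
    rw [hq] at h1
    have h2 := (normalizer ((P : Subgroup (Matrix.ProjectiveSpecialLinearGroup (Fin 2) F)) :
      Set (Matrix.ProjectiveSpecialLinearGroup (Fin 2) F))).card_mul_index
    rw [h1, ht] at h2
    have h3 : μ ∣ Nat.card (normalizer ((P : Subgroup (Matrix.ProjectiveSpecialLinearGroup (Fin 2) F)) :
      Set (Matrix.ProjectiveSpecialLinearGroup (Fin 2) F))) := by
      rw [← hμ, Nat.card_congr e.toEquiv]
      exact card_dvd_of_le hK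
    obtain ⟨b, hb⟩ : ∃ b, Nat.card (normalizer ((P : Subgroup (Matrix.ProjectiveSpecialLinearGroup (Fin 2) F)) :
      Set (Matrix.ProjectiveSpecialLinearGroup (Fin 2) F))) = b := ⟨_, rfl⟩
    rw [hb] at h2 h3
    have h5 : d * b = q * (q - 1) := by
      apply Nat.eq_of_mul_eq_mul_left (show 0 < q + 1 by omega)
      calc (q + 1) * (d * b) = d * (b * (q + 1)) := by ring
        _ = q * ((q + 1) * (q - 1)) := by rw [h2]; exact hcard
        _ = (q + 1) * (q * (q - 1)) := by ring
    by_cases hq8 : q = 8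
    · apply hE8
      refine ⟨hq8, ?_⟩
      rw [hq8] at hd h5
      norm_num at hd h5
      rw [← hd, one_mul] at h5
      rw [← h5]; exact h3
    by_cases hmer : N = 1 ∧ ∃ k, q + 1 = 2 ^ k
    · obtain ⟨hN1, k, hk⟩ := hmer
      obtain ⟨hp5', hpq'⟩ := hp5 hN1
      apply hEm
      refine ⟨hpq' ▸ hp.out, ⟨k, hk⟩, ?_⟩
      have hd' : d = 2 := by
        rw [← hd]
        apply Nat.gcd_eq_left
        have hk0 : k ≠ 0 := by rintro rfl; rw [pow_zero] at hk; omega
        have : 2 ∣ q + 1 := hk ▸ dvd_pow_self 2 hk0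
        omega
      rw [← h5, hd']
      exact Nat.mul_dvd_mul_left 2 h3
    · obtain ⟨r, hr, hr2, hrd, hrμ, -, -⟩ := hF1 hq8 hmer
      have h7 : r ∣ q * (q - 1) := by
        rw [← h5]
        exact (hrμ.trans h3).mul_left d
      rcases hr.dvd_mul.1 h7 with h8 | h8
      · exact hr.one_lt.ne' (Nat.dvd_one.1 ((Nat.dvd_add_right h8).1 hrd))
      · exact hboth r hr hr2 hrd h8
  · -- `A₄`
    refine hbig 12 (fun r hr h5 h => ?_) ?_
    · rw [show 12 = 2 ^ 2 * 3 by norm_num, hr.dvd_mul] at h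
      rcases h with h | h
      · have := Nat.le_of_dvd (by norm_num) (hr.dvd_of_dvd_pow h); omega
      · have := Nat.le_of_dvd (by norm_num) h; omega
    · rw [← hμ, Nat.card_congr e.toEquiv, nat_card_alternatingGroup, Nat.card_eq_fintype_card, Fintype.card_fin]
      rfl
  · -- `S₄`
    refine hbig 24 (fun r hr h5 h => ?_) ?_
    · rw [show 24 = 2 ^ 3 * 3 by norm_num, hr.dvd_mul] at h
      rcases h with h | h
      · have := Nat.le_of_dvd (by norm_num) (hr.dvd_of_dvd_pow h); omega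
      · have := Nat.le_of_dvd (by norm_num) h; omega
    · rw [← hμ, Nat.card_congr e.toEquiv, Nat.card_perm, Nat.card_eq_fintype_card, Fintype.card_fin]
      rfl
  · -- `A₅`
    have h60 : μ = 60 := by
      rw [← hμ, Nat.card_congr e.toEquiv, nat_card_alternatingGroup, Nat.card_eq_fintype_card, Fintype.card_fin]
      rfl
    have h5only : ∀ r : ℕ, r.Prime → r ∣ μ → r = 2 ∨ r = 3 ∨ r = 5 := by
      intro r hr hrd
      rw [h60, show 60 = 2 ^ 2 * 3 * 5 by norm_num, hr.dvd_mul, hr.dvd_mul] at hrd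
      rcases hrd with (hrd | hrd) | hrd
      · left; exact (Nat.prime_dvd_prime_iff_eq hr Nat.prime_two).1 (hr.dvd_of_dvd_pow hrd)
      · right; left; exact (Nat.prime_dvd_prime_iff_eq hr Nat.prime_three).1 hrd
      · right; right; exact (Nat.prime_dvd_prime_iff_eq hr Nat.prime_five).1 hrd
    have hsmall : q = 4 ∨ q = 5 → False := by
      intro h
      have h1 : t = 60 := by
        rcases h with rfl | rfl
        · norm_num at hd hcard
          rw [← hd] at hcard
          omega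
        · norm_num at hd hcard
          rw [← hd] at hcard
          omega
      rw [h1, h60] at hmul
      clear hF1 hF2 hEm
      omega
    by_cases hN1 : N = 1
    · obtain ⟨h1, h2⟩ := hp5 hN1
      have h3 := h5only p hp.out (hpc hN1)
      exact hsmall (Or.inr (by omega))
    by_cases hq8 : q = 8
    · have := h5only 7 (by norm_num) (h7of hq8)
      omega
    · obtain ⟨r, hr, hr2, hrd, hrμ, hrp, hrN⟩ := hF1 hq8 (fun h => hN1 h.1)
      obtain ⟨hr3, hriff⟩ := hrN (by omega)
      have h3 := h5only r hr hrμ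
      have hN2 : N = 2 := by omega
      have hr5 : r = 5 := by omega
      have hq2 : q = p ^ 2 := by rw [hN, hN2]
      have hodd : ∀ u : ℕ, u.Prime → u ≠ 2 → u ∣ (q + 1) * (q - 1) → u ∣ μ := by
        intro u hu hu2 hud
        have hup : u ≠ p := by
          rcases hu.dvd_mul.1 hud with h | h
          · exact hne u h
          · exact hne' u h
        exact hcyc u hu hu2 hup hud (by
          rw [hN2]; exact fun h => hu2 ((Nat.prime_dvd_prime_iff_eq hu Nat.prime_two).1 h))
      have h5q : q - 1 = (p + 1) * (p - 1) := by rw [hq2]; exact sub_mul_self hp.out.one_lt.le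
      have h6 := smooth_pair hp.out (fun u hu hud => by
        by_cases hu2 : u = 2
        · exact Or.inl hu2
        · right
          have h8 := h5only u hu (hodd u hu hu2 (by rw [h5q]; exact hud.mul_left _))
          have h9 : u ≠ 5 := by
            intro h
            exact hboth 5 (by norm_num) (by norm_num) (hr5 ▸ hrd) (by rw [h5q, ← h]; exact hud)
          omega)
      rcases h6 with h | h | h | h | h
      · exact hsmall (Or.inl (by rw [hq2, h]; norm_num))
      · exact hE9 ⟨by rw [hq2, h]; norm_num, by rw [h60]⟩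
      · rw [hr5, h] at hrp
        exact hrp dvd_rfl
      · exact hE49 ⟨by rw [hq2, h]; norm_num, h60⟩
      · have := h5only 29 (by norm_num) (hodd 29 (by norm_num) (by norm_num) (by rw [hq2, h]; norm_num))
        omega
  · -- subfields
    obtain ⟨q0, hq0⟩ : ∃ q0, Fintype.card K = q0 := ⟨_, rfl⟩
    have hq01 : 1 < q0 := hq0 ▸ Fintype.one_lt_card
    rw [hq0] at hm
    have hm0 : m ≠ 0 := by rintro rfl; rw [pow_zero] at hm; omega
    obtain ⟨a, -, ha⟩ := (Nat.dvd_prime_pow hp.out).1 (show q0 ∣ p ^ N by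
      rw [← hN, ← hm]; exact dvd_pow_self q0 hm0)
    have ha0 : a ≠ 0 := by rintro rfl; rw [pow_zero] at ha; omega
    -- the order of `M`
    have hM1 : μ ∣ q0 * (q0 ^ 2 - 1) ∧ (q0 = q → t ≤ μ) := by
      rcases he with ⟨⟨e⟩⟩ | ⟨⟨e⟩⟩
      · have h1 := card_psl (F := K)
        rw [hq0, ← Nat.card_congr e.toEquiv, hμ] at h1
        refine ⟨⟨_, by rw [← h1]; ring⟩, ?_⟩
        rintro rfl
        rw [hd, hfac, ← hcard] at h1
        exact (Nat.eq_of_mul_eq_mul_left hdpos h1).ge
      · have h1 := card_pgl (F := K)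
        rw [hq0, ← Nat.card_congr e.toEquiv, hμ] at h1
        refine ⟨by rw [h1], ?_⟩
        rintro rfl
        rw [h1, hfac, ← hcard]
        exact Nat.le_mul_of_pos_left _ hdpos
    by_cases hm1 : m = 1
    · subst hm1
      rw [pow_one] at hm
      have h1 := hM1.2 hm
      apply hidx1
      have h2 : μ * ι ≤ μ * 1 := by omega
      have h3 := Nat.le_of_mul_le_mul_left h2 hMpos
      clear hF1 hF2 hEm
      omega
    · have hm2 : 2 ≤ m := by omega
      have haN : a * m = N := by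
        rw [ha, hN, ← pow_mul] at hm
        exact Nat.pow_right_injective hp.out.two_le hm
      have haN2 : 2 * a ≤ N := by rw [← haN, mul_comm]; exact Nat.mul_le_mul_left a hm2
      by_cases h8 : q = 8
      · -- `q = 8`
        have h9 : q0 = 2 := by
          rw [h8] at hm
          have h10 : q0 ≤ 2 := by
            by_contra h11
            push Not at h11
            have h12 : 3 ^ 2 ≤ q0 ^ m := (Nat.pow_le_pow_left h11 2).trans (Nat.pow_le_pow_right (by omega) hm2)
            omega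
          omega
        have h10 := (h7of h8).trans hM1.1
        rw [h9] at h10
        norm_num at h10
      · obtain ⟨r, hr, hr2, hrd, hrμ, hrp, hrN⟩ := hF1 h8 (fun h => by omega)
        obtain ⟨hr3, hriff⟩ := hrN (by omega)
        rcases hr.dvd_mul.1 (hrμ.trans hM1.1) with h12 | h12
        · rw [ha] at h12
          exact hrp (hr.dvd_of_dvd_pow h12)
        · rw [ha, ← pow_mul, hriff] at h12
          have := Nat.le_of_dvd (by omega) h12
          omega

end

end Cfsg.Agent.H947.Cyc
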