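import Cfsg.Agent.H947.Cyc.TI
import Cfsg.Agent.H947.Cyc.Sz
import Cfsg.Agent.H947.Cyc.Ree
import Cfsg.Agent.H947.Cyc.Psl2
import Cfsg.Agent.H210.Loc.TI
import Cfsg.Agent.H436.TTPsl2
import Cfsg.Agent.H57.BG.Gap
import Cfsg.Agent.H57.BG.CD

/-!
# Rows of S3561 (helper947): `PSL₂(q)`, Suzuki and Ree groups
-/

set_option autoImplicit false
set_option linter.style.haveILetI false

namespace Cfsg.Agent.H947.Cyc

open Subgroup Cfsg Cfsg.Agent.H899.CG Cfsg.Agent.H57.BG Cfsg.Agent.H394.SqPsl2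

universe u

theorem row_sz {T : Type u} [Group T] [Finite T] [IsSimpleGroup T] (hna : ¬ ∀ a b : T, a * b = b * a)
    (h : Cfsg.Lie.IsoSuzuki T) : Row T := row_of_cGapMax (center_eq_bot hna) (cGapMax_sz h)

theorem row_ree {T : Type u} [Group T] [Finite T] [IsSimpleGroup T] (hna : ¬ ∀ a b : T, a * b = b * a)
    (h : Cfsg.Lie.IsoRee T) : Row T := row_of_cGapMax (center_eq_bot hna) (cGapMax_ree h)

/-- the order of a Sylow subgroup -/
theorem card_syl {T : Type*} [Group T] [Finite T] {p : ℕ} [hp : Fact p.Prime] (P : Sylow p T) {k : ℕ}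
    (h1 : p ^ k ∣ Nat.card T) (h2 : ¬ p ^ (k + 1) ∣ Nat.card T) : Nat.card P = p ^ k := by
  rw [P.card_eq_multiplicity]
  congr 1
  have h0 : Nat.card T ≠ 0 := Nat.card_pos.ne'
  apply le_antisymm
  · by_contra h3
    apply h2
    rw [hp.out.pow_dvd_iff_le_factorization h0]
    omega
  · rwa [← hp.out.pow_dvd_iff_le_factorization h0]

section psl

variable {F : Type u} [Field F] [Fintype F]

theorem exists_char (F : Type*) [Field F] [Fintype F] : ∃ p N, ∃ _ : Fact p.Prime, CharP F p ∧ 1 ≤ N ∧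
    Fintype.card F = p ^ N := by
  obtain ⟨p, hchar⟩ := CharP.exists F
  have hp : p.Prime := CharP.char_is_prime F p
  obtain ⟨n, -, hn⟩ := FiniteField.card F p
  exact ⟨p, n, ⟨hp⟩, hchar, n.2, hn⟩

theorem char_eq {F : Type*} [Field F] [Fintype F] {p N a k : ℕ} [hp : Fact p.Prime] (ha : a.Prime)
    (h : Fintype.card F = p ^ N) (h' : Fintype.card F = a ^ k) (hk : k ≠ 0) : p = a := by
  have h1 : a ∣ p ^ N := by rw [← h, h']; exact dvd_pow_self a hk
  exact ((Nat.prime_dvd_prime_iff_eq ha hp.out).1 (ha.dvd_of_dvd_pow h1)).symm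

theorem tw_primes {T : Type u} [Group T] [Finite T] {A : Subgroup (MulAut T)} {L : Subgroup T} (h : Reg A L) {n : ℕ}
    (hn : Nat.card T = n) (hn3 : ∀ r : ℕ, r.Prime → r ^ 2 ∣ n → r = 2 ∨ r = 3) : 36 ∣ L.index := by
  obtain ⟨r, s, hr, hs, hrs, hr2, hs2⟩ := h.exists_two_primes
  have h1 := hn3 r hr (hn ▸ hr2.trans L.index_dvd_card)
  have h2 := hn3 s hs (hn ▸ hs2.trans L.index_dvd_card)
  rcases h1 with rfl | rfl <;> rcases h2 with rfl | rfl
  · exact absurd rfl hrs
  · exact Nat.Coprime.mul_dvd_of_dvd_of_dvd (by norm_num : Nat.Coprime 4 9) hr2 hs2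
  · exact Nat.Coprime.mul_dvd_of_dvd_of_dvd (by norm_num : Nat.Coprime 4 9) hs2 hr2
  · exact absurd rfl hrs

theorem row_psl2_aux8 (hq : Fintype.card F = 8) : Row (Matrix.ProjectiveSpecialLinearGroup (Fin 2) F) := by
  intro A L h
  have hfin : Finite (Matrix.ProjectiveSpecialLinearGroup (Fin 2) F) := Quotient.finite _
  obtain ⟨hs, hc⟩ := psl2_facts (F := F) (by omega)
  obtain ⟨p, N, hp, hchar, hN0, hN⟩ := exists_char F
  have hp2 : p = 2 := char_eq Nat.prime_two hN (by rw [hq]; norm_num : Fintype.card F = 2 ^ 3) (by norm_num)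
  subst hp2
  have hN3 : N = 3 := by
    rw [hq, show (8 : ℕ) = 2 ^ 3 by norm_num] at hN
    exact (Nat.pow_right_injective le_rfl hN).symm
  have hcard := card_psl (F := F)
  rw [hq, show Nat.gcd 2 (8 - 1) = 1 by decide, one_mul, show 8 * (8 ^ 2 - 1) = 504 by norm_num] at hcard
  have h36 : 36 ∣ L.index := by
    refine tw_primes h hcard fun r hr hd => ?_
    have h1 : r ∣ 504 := (dvd_pow_self r two_ne_zero).trans hd
    rw [show 504 = 2 ^ 3 * (3 ^ 2 * 7) by norm_num, hr.dvd_mul, hr.dvd_mul] at h1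
    rcases h1 with h1 | h1 | h1
    · exact Or.inl ((Nat.prime_dvd_prime_iff_eq hr Nat.prime_two).1 (hr.dvd_of_dvd_pow h1))
    · exact Or.inr ((Nat.prime_dvd_prime_iff_eq hr Nat.prime_three).1 (hr.dvd_of_dvd_pow h1))
    · rw [(Nat.prime_dvd_prime_iff_eq hr (by norm_num)).1 h1] at hd
      norm_num at hd
  have hout := out_psl2 (F := F) (by omega) hp.out hN
  rw [hq, show Nat.gcd 2 (8 - 1) = 1 by decide, mul_one, hN3] at hout
  have h1 := h36.trans (h.index_dvd hc)
  have h1' : 36 ∣ Nat.card (inner A) * 3 := by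
    have h2 : (Inn (Matrix.ProjectiveSpecialLinearGroup (Fin 2) F)).index = 3 := hout
    rwa [h2] at h1
  have h2 : 12 ∣ Nat.card (inner A) := by
    have : 12 * 3 ∣ Nat.card (inner A) * 3 := h1'
    exact Nat.dvd_of_mul_dvd_mul_right (by norm_num) this
  have hTI : ∀ P Q : Sylow 2 (Matrix.ProjectiveSpecialLinearGroup (Fin 2) F), P ≠ Q →
      (P : Subgroup (Matrix.ProjectiveSpecialLinearGroup (Fin 2) F)) ⊓ Q = ⊥ := Cfsg.Agent.H210.Loc.ti_psl2
  obtain ⟨x, hx⟩ := exists_prime_orderOf_dvd_card' (G := inner A) 2 ((by norm_num : 2 ∣ 12).trans h2)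
  have hf3 : Fact (Nat.Prime 3) := ⟨Nat.prime_three⟩
  obtain ⟨y, hy⟩ := exists_prime_orderOf_dvd_card' (G := inner A) 3 ((by norm_num : 3 ∣ 12).trans h2)
  have hxp : IsPGroup 2 (zpowers (x : Matrix.ProjectiveSpecialLinearGroup (Fin 2) F)) := by
    apply IsPGroup.of_card (n := 1)
    rw [Nat.card_zpowers, Subgroup.orderOf_coe, hx, pow_one]
  obtain ⟨P, hP⟩ := hxp.exists_le_sylow
  have hx1 : (x : Matrix.ProjectiveSpecialLinearGroup (Fin 2) F) ≠ 1 := by
    intro h3
    have h4 : x = 1 := Subtype.ext h3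
    rw [h4, orderOf_one] at hx
    norm_num at hx
  have hyN := mem_normalizer_of_comm hTI hx1 (hP (mem_zpowers _)) (h.inner_comm hc y.2 x.2)
  have hidx := Cfsg.Agent.H436.TT.index_normalizer 2 P
  have h3 := (normalizer ((P : Subgroup (Matrix.ProjectiveSpecialLinearGroup (Fin 2) F)) :
    Set (Matrix.ProjectiveSpecialLinearGroup (Fin 2) F))).card_mul_index
  rw [hidx, hcard, hq] at h3
  have h4 : Nat.card (normalizer ((P : Subgroup (Matrix.ProjectiveSpecialLinearGroup (Fin 2) F)) :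
      Set (Matrix.ProjectiveSpecialLinearGroup (Fin 2) F))) = 56 := by
    omega
  have h5 := Subgroup.orderOf_dvd_natCard _ hyN
  rw [h4, Subgroup.orderOf_coe, hy] at h5
  norm_num at h5

theorem row_psl2_aux9 (hq : Fintype.card F = 9) : Row (Matrix.ProjectiveSpecialLinearGroup (Fin 2) F) := by
  intro A L h
  have hfin : Finite (Matrix.ProjectiveSpecialLinearGroup (Fin 2) F) := Quotient.finite _
  obtain ⟨hs, hc⟩ := psl2_facts (F := F) (by omega)
  obtain ⟨p, N, hp, hchar, hN0, hN⟩ := exists_char F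
  have hp3 : p = 3 := char_eq Nat.prime_three hN (by rw [hq]; norm_num : Fintype.card F = 3 ^ 2) (by norm_num)
  subst hp3
  have hN2 : N = 2 := by
    rw [hq, show (9 : ℕ) = 3 ^ 2 by norm_num] at hN
    exact (Nat.pow_right_injective (by norm_num) hN).symm
  have hcard := card_psl (F := F)
  rw [hq, show Nat.gcd 2 (9 - 1) = 2 by decide, show 9 * (9 ^ 2 - 1) = 2 * 360 by norm_num] at hcard
  replace hcard := Nat.eq_of_mul_eq_mul_left (by norm_num) hcard
  have h36 : 36 ∣ L.index := by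
    refine tw_primes h hcard fun r hr hd => ?_
    have h1 : r ∣ 360 := (dvd_pow_self r two_ne_zero).trans hd
    rw [show 360 = 2 ^ 3 * (3 ^ 2 * 5) by norm_num, hr.dvd_mul, hr.dvd_mul] at h1
    rcases h1 with h1 | h1 | h1
    · exact Or.inl ((Nat.prime_dvd_prime_iff_eq hr Nat.prime_two).1 (hr.dvd_of_dvd_pow h1))
    · exact Or.inr ((Nat.prime_dvd_prime_iff_eq hr Nat.prime_three).1 (hr.dvd_of_dvd_pow h1))
    · rw [(Nat.prime_dvd_prime_iff_eq hr (by norm_num)).1 h1] at hd
      norm_num at hd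
  have hout := out_psl2 (F := F) (by omega) hp.out hN
  rw [hq, show Nat.gcd 2 (9 - 1) = 2 by decide, hN2] at hout
  have h1 := h36.trans (h.index_dvd hc)
  have h1' : 36 ∣ Nat.card (inner A) * 4 := by
    have h2 : (Inn (Matrix.ProjectiveSpecialLinearGroup (Fin 2) F)).index = 4 := hout
    rwa [h2] at h1
  have h2 : 3 ^ 2 ∣ Nat.card (inner A) := by
    have : 9 * 4 ∣ Nat.card (inner A) * 4 := h1'
    exact Nat.dvd_of_mul_dvd_mul_right (by norm_num) this
  have hTI : ∀ P Q : Sylow 3 (Matrix.ProjectiveSpecialLinearGroup (Fin 2) F), P ≠ Q →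
      (P : Subgroup (Matrix.ProjectiveSpecialLinearGroup (Fin 2) F)) ⊓ Q = ⊥ := Cfsg.Agent.H210.Loc.ti_psl2
  obtain ⟨E', hE'⟩ := Sylow.exists_subgroup_card_pow_prime (G := inner A) 3 h2
  have hEcard : Nat.card (E'.map (inner A).subtype) = 3 ^ 2 := by
    rw [← hE']
    exact (Nat.card_congr (E'.equivMapOfInjective _ (inner A).subtype_injective).toEquiv).symm
  have hEp : IsPGroup 3 (E'.map (inner A).subtype) := IsPGroup.of_card hEcard
  obtain ⟨P, hEP⟩ := hEp.exists_le_sylow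
  have hP : Nat.card P = 3 ^ 2 := card_syl P (by rw [hcard]; norm_num) (by rw [hcard]; norm_num)
  have hPE : (P : Subgroup (Matrix.ProjectiveSpecialLinearGroup (Fin 2) F)) = E'.map (inner A).subtype :=
    (Subgroup.eq_of_le_of_card_ge hEP (by rw [hEcard]; exact hP.le)).symm
  have hPA : (P : Subgroup (Matrix.ProjectiveSpecialLinearGroup (Fin 2) F)) ≤ inner A := by
    rw [hPE]
    rintro _ ⟨x, -, rfl⟩
    exact x.2
  have h3 : 2 ∣ Nat.card A := by
    rw [h.card]
    exact (by norm_num : 2 ∣ 36).trans h36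
  obtain ⟨a, ha⟩ := exists_prime_orderOf_dvd_card' (G := A) 2 h3
  have hN' : Nat.card (Sylow 3 (Matrix.ProjectiveSpecialLinearGroup (Fin 2) F)) = Nat.card P + 1 := by
    rw [P.card_eq_index_normalizer, hP, ← show Fintype.card F = 3 ^ 2 from hq]
    exact Cfsg.Agent.H436.TT.index_normalizer 3 P
  have h4 : (a : MulAut (Matrix.ProjectiveSpecialLinearGroup (Fin 2) F)) = 1 := by
    refine eq_one_of_fix (k := 2) hTI P hN' (fun x hx => h.apply_eq hc a.2 (hPA hx)) ?_ (by norm_num)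
    have h5 : a ^ 2 = 1 := orderOf_dvd_iff_pow_eq_one.1 (by rw [ha])
    exact congrArg Subtype.val h5
  have h5 : a = 1 := Subtype.ext h4
  rw [h5, orderOf_one] at ha
  norm_num at ha

/-- **`PSL₂(q)`** -/
theorem row_psl2 (h4 : 4 ≤ Fintype.card F) : Row (Matrix.ProjectiveSpecialLinearGroup (Fin 2) F) := by
  by_cases h8 : Fintype.card F = 8
  · exact row_psl2_aux8 h8
  by_cases h9 : Fintype.card F = 9
  · exact row_psl2_aux9 h9
  intro A L h
  have hfin : Finite (Matrix.ProjectiveSpecialLinearGroup (Fin 2) F) := Quotient.finite _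
  obtain ⟨hs, hc⟩ := psl2_facts h4
  rcases cgap_psl2 h4 L h.proper with hg | ⟨hq, -⟩ | ⟨hq, -⟩ | ⟨hq, hL⟩ | ⟨hq, ⟨k, hk⟩, -⟩
  · exact h.not_cGap_self hc hg
  · exact h8 hq
  · exact h9 hq
  · obtain ⟨p, N, hp, hchar, hN0, hN⟩ := exists_char F
    have hp7 : p = 7 := char_eq (by norm_num) hN (by rw [hq]; norm_num : Fintype.card F = 7 ^ 2) (by norm_num)
    subst hp7
    have hN2 : N = 2 := by
      rw [hq, show (49 : ℕ) = 7 ^ 2 by norm_num] at hN
      exact (Nat.pow_right_injective (by norm_num) hN).symm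
    refine h.not_dvd_of_cyc hc (u := 5) (cyc_psl2 (p := 7) h4 hN (by norm_num) (by norm_num) (by norm_num)
      (by rw [hq]; norm_num) (by rw [hN2]; norm_num)) ?_
    have hcard := card_psl (F := F)
    rw [hq, show Nat.gcd 2 (49 - 1) = 2 by decide, show 49 * (49 ^ 2 - 1) = 2 * 58800 by norm_num] at hcard
    replace hcard := Nat.eq_of_mul_eq_mul_left (by norm_num) hcard
    have h1 := L.card_mul_index
    rw [hcard, hL] at h1
    omega
  · obtain ⟨r, s, hr, hs', hrs, hr2, hs2⟩ := h.exists_two_primes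
    have key : ∀ t : ℕ, t.Prime → t ≠ 2 → t ∣ L.index → False := by
      intro t ht ht2 htd
      have h1 : t ∣ Nat.gcd 2 (Fintype.card F - 1) * Nat.card (Matrix.ProjectiveSpecialLinearGroup (Fin 2) F) :=
        (htd.trans L.index_dvd_card).mul_left _
      rw [card_psl, sub_mul_self (by omega), ht.dvd_mul] at h1
      have hN : Fintype.card F = Fintype.card F ^ 1 := (pow_one _).symm
      by_cases htq : t = Fintype.card F
      · rw [htq] at htd
        exact h.not_dvd_of_cyc hc (cyc_psl2_char h4 hq rfl) htd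
      · have h2 : t ∣ (Fintype.card F + 1) * (Fintype.card F - 1) :=
          h1.resolve_left fun h3 => htq ((Nat.prime_dvd_prime_iff_eq ht hq).1 h3)
        have hp : Fact (Fintype.card F).Prime := ⟨hq⟩
        obtain ⟨p, N, hp', hchar, hN0, hN'⟩ := exists_char F
        have hpq : p = Fintype.card F := char_eq hq hN' hN one_ne_zero
        have hchar' : CharP F (Fintype.card F) := by
          rw [← hpq]
          exact hchar
        exact h.not_dvd_of_cyc hc (cyc_psl2 (p := Fintype.card F) h4 hN ht ht2 htq h2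
          (fun h3 => ht.one_lt.ne' (Nat.dvd_one.1 h3))) htd
    by_cases hr2' : r = 2
    · exact key s hs' (fun h => hrs (hr2'.trans h.symm)) ((dvd_pow_self s two_ne_zero).trans hs2)
    · exact key r hr hr2' ((dvd_pow_self r two_ne_zero).trans hr2)

end psl

end Cfsg.Agent.H947.Cyc
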