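import Cfsg.Agent.H947.Cyc.Psl2
import Cfsg.Agent.H947.El.PsuC
import Cfsg.Agent.H947.El.ReeB
import Cfsg.Agent.H907.FieldAdj
import Cfsg.Agent.H907.SU3Sylow
import Cfsg.Agent.LieExceptional.CyclicSylow
import Cfsg.Agent.H912.Core4
import Cfsg.Agent.Classification.NGroupExclude
import Cfsg.Agent.Classification.QDW.SUTwoTrace
import Cfsg.Agent.S0815
import Cfsg.Agent.S0283

/-!
# Cyclic primes (helper947, for S3561 and S3679): `PSU₃(q)`
-/

set_option autoImplicit false
set_option linter.style.haveILetI false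

namespace Cfsg.Agent.H947.Cyc

open Subgroup Cfsg Cfsg.Geo Cfsg.Agent.H947.Sq Module Cfsg.Agent.H918 Cfsg.Agent.H907.Mx Cfsg.Agent.H947.El
  Cfsg.Agent.H899.CG
open scoped MatrixGroups

theorem center_bot {T : Type*} [Group T] [Finite T] (hs : IsSimpleGroup T) {a b : ℕ} (ha : a.Prime) (hb : b.Prime)
    (hab : a ≠ b) (had : a ∣ Nat.card T) (hbd : b ∣ Nat.card T) : center T = ⊥ := by
  rcases hs.eq_bot_or_eq_top_of_normal (center T) inferInstance with h | h
  · exact h
  · exfalso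
    have : Fact a.Prime := ⟨ha⟩
    obtain ⟨x, hx⟩ := exists_prime_orderOf_dvd_card' (G := T) a had
    have hn : (zpowers x).Normal := ⟨fun y hy g => by
      have h1 := mem_center_iff.1 (h ▸ mem_top y : y ∈ center T) g
      rw [h1, mul_inv_cancel_right]
      exact hy⟩
    rcases hs.eq_bot_or_eq_top_of_normal _ hn with h1 | h1
    · rw [zpowers_eq_bot] at h1
      rw [h1, orderOf_one] at hx
      exact ha.one_lt.ne hx
    · have h2 : Nat.card (zpowers x) = Nat.card T := by rw [h1, Subgroup.card_top]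
      rw [Nat.card_zpowers, hx] at h2
      rw [← h2] at hbd
      exact hab ((Nat.prime_dvd_prime_iff_eq hb ha).1 hbd).symm

section

variable {F : Type*} [Field F] [Fintype F] {q : ℕ}

theorem card_su3 (hF : Fintype.card F = q ^ 2) : Nat.card (SU 3 F q) = q ^ 3 * (q ^ 2 - 1) * (q ^ 3 + 1) := by
  rw [← Cfsg.Agent.H907.SU3.card_SUg hF, ← range_suHom]
  exact Nat.card_congr (MonoidHom.ofInjective suHom_injective).toEquiv

/-- Sylow subgroups for the primitive prime -/
theorem syl_r {p n r : ℕ} (h : PN F p n q r) [Fact r.Prime] (P : Sylow r (SU 3 F q)) : IsCyclic P := by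
  have hn := h.n0
  refine Cfsg.Agent.LieExceptional.CyclicSylow.isCyclic_of_isPGroup_of_hom_GL (F := F) (n := 3) (p := r) ?_ ?_ P.isPGroup'
    ((suHom 3 F q).comp (P : Subgroup (SU 3 F q)).subtype)
    (suHom_injective.comp (P : Subgroup (SU 3 F q)).subtype_injective)
  · rw [Nat.card_eq_fintype_card, h.cF]
    exact fun h1 => h.rp (h.pr.dvd_of_dvd_pow h1)
  · intro i h0 h3
    rw [Nat.card_eq_fintype_card, h.cF, ← pow_mul]
    refine h.not_dvd (by positivity) ?_
    have : i ≤ 2 := by omega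
    nlinarith

/-- Sylow subgroups for the odd primes dividing `q - 1` -/
theorem syl_s (hF : Fintype.card F = q ^ 2) {p n r : ℕ} (h : PN F p n q r) {s : ℕ} [hs : Fact s.Prime] (hs2 : s ≠ 2)
    (hd : s ∣ q - 1) (P : Sylow s (SU 3 F q)) : IsCyclic P := by
  have hn := h.n0
  have : Fact p.Prime := ⟨h.pp⟩
  have hq2 : 2 ≤ q := by
    rw [h.qp]
    exact h.pp.two_le.trans (Nat.le_self_pow hn.ne' p)
  have hK : Nat.card (GaloisField p n) = q := by rw [GaloisField.card p n hn.ne', h.qp]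
  let _ : Fintype (GaloisField p n) := Fintype.ofFinite _
  rw [Nat.card_eq_fintype_card] at hK
  obtain ⟨-, g, hg, hgr, -⟩ := Cfsg.Agent.Classification.QDW.SUTwoTrace.exists_hom hF hK
  let g' : Matrix.SpecialLinearGroup (Fin 2) (GaloisField p n) →* SU 2 F q :=
    g.codRestrict _ (fun x => by rw [← hgr]; exact ⟨x, rfl⟩)
  have hg' : Function.Injective g' := fun x y hxy => hg (congrArg Subtype.val hxy)
  let f : (GaloisField p n)ˣ →* SU 3 F q :=
    ((Cfsg.Agent.Classification.NGroupExclude.blkSU (F := F) q).comp g').comp hh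
  have hhi : Function.Injective (hh (F := GaloisField p n)) := by
    intro a b hab
    have h1 := congrFun (congrFun (congrArg Subtype.val hab) 0) 0
    rw [coe_hh, coe_hh] at h1
    exact Units.ext (by simpa using h1)
  have hf : Function.Injective f :=
    ((Cfsg.Agent.Classification.NGroupExclude.blkSU_injective (F := F) q).comp hg').comp hhi
  have hfin : Finite (SU 3 F q) := inferInstance
  refine Cfsg.Agent.LieExceptional.CyclicSylow.isCyclic_sylow_of_hom f hf ?_ P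
  have hsq : ¬ s ∣ q := by
    intro h1
    have h2 : s ∣ q - (q - 1) := Nat.dvd_sub h1 hd
    rw [Nat.sub_sub_self (by omega)] at h2
    exact hs.out.one_lt.ne' (Nat.dvd_one.1 h2)
  have hmod : q ≡ 1 [MOD s] := ((Nat.modEq_iff_dvd' (by omega)).2 hd).symm
  have hs2' : ¬ s ∣ 2 := fun h1 => hs2 ((Nat.prime_dvd_prime_iff_eq hs.out Nat.prime_two).1 h1)
  have h3 : ¬ s ∣ q ^ 3 + 1 := by
    intro h1
    have h2 : q ^ 3 + 1 ≡ 1 ^ 3 + 1 [MOD s] := (hmod.pow 3).add_right 1
    exact hs2' ((Nat.modEq_zero_iff_dvd.1 ((h2.symm.trans (Nat.modEq_zero_iff_dvd.2 h1)))))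
  have h4 : ¬ s ∣ q + 1 := by
    intro h1
    have h2 : q + 1 ≡ 1 + 1 [MOD s] := hmod.add_right 1
    exact hs2' ((Nat.modEq_zero_iff_dvd.1 ((h2.symm.trans (Nat.modEq_zero_iff_dvd.2 h1)))))
  have h5 : q ^ 2 - 1 = (q + 1) * (q - 1) := Cfsg.Agent.H394.SqPsl2.sub_mul_self (by omega)
  rw [card_su3 hF, h5, Nat.card_units, Nat.card_eq_fintype_card, hK]
  have hq0 : q - 1 ≠ 0 := by omega
  rw [Nat.factorization_mul (by positivity) (by positivity), Nat.factorization_mul (by positivity) (by positivity),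
    Nat.factorization_mul (by positivity) (by positivity)]
  simp only [Finsupp.add_apply]
  rw [Nat.factorization_eq_zero_of_not_dvd h3, Nat.factorization_eq_zero_of_not_dvd h4,
    Nat.factorization_eq_zero_of_not_dvd (fun h6 => hsq (hs.out.dvd_of_dvd_pow h6))]
  omega

/-- from `SU₃` to `PSU₃` -/
theorem cycW_of_su {u : ℕ} [hu : Fact u.Prime] (h : ∀ P : Sylow u (SU 3 F q), IsCyclic P)
    (hd : u ∣ Nat.card (PSU 3 F q)) : CycW (PSU 3 F q) u := by
  have hfin : Finite (PSU 3 F q) := Quotient.finite _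
  have hfinS : Finite (SU 3 F q) := inferInstance
  refine cycW_of_sylow hd fun P => ?_
  have hs : Function.Surjective (QuotientGroup.mk' (center (SU 3 F q))) := QuotientGroup.mk'_surjective _
  obtain ⟨Q, hQ⟩ := Sylow.mapSurjective_surjective hs u P
  have hc := h Q
  rw [← hQ, Sylow.coe_mapSurjective]
  exact isCyclic_of_surjective _ ((QuotientGroup.mk' (center (SU 3 F q))).subgroupMap_surjective Q)

theorem psu3_facts (hF : Fintype.card F = q ^ 2) (hq : 3 ≤ q) : IsSimpleGroup (PSU 3 F q) ∧ center (PSU 3 F q) = ⊥ := by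
  have hfin : Finite (PSU 3 F q) := Quotient.finite _
  have hs := Cfsg.Agent.S0283.result hF 3 le_rfl (fun h => by omega)
  obtain ⟨p, n, r, h, hchar⟩ := exists_PN hF hq
  obtain ⟨hrT, h2T, -⟩ := psu3_orders hF h
  have := h.ge
  have := h.n0
  exact ⟨hs, center_bot hs h.pr Nat.prime_two (by omega) hrT h2T⟩

theorem out_psu3 (hF : Fintype.card F = q ^ 2) (hq : 3 ≤ q) {p n : ℕ} (hp : p.Prime) (hn : 1 ≤ n) (hqp : q = p ^ n) :
    (MulAut.conj : PSU 3 F q →* _).range.index = Nat.gcd 3 (q + 1) * (2 * n) := by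
  have : Fact p.Prime := ⟨hp⟩
  have hfin : Finite (PSU 3 F q) := Quotient.finite _
  exact index_of_card (psu3_facts hF hq).2 (Cfsg.Agent.S0815.result p n hn hqp hF 3 le_rfl (fun h => by omega))

/-- the order of the normaliser of a cubic field -/
theorem card_field (hF : Fintype.card F = q ^ 2) {K : Subalgebra F (Matrix (Fin 3) (Fin 3) F)} (hK : IsFieldSubalgebra 3 K)
    (hadj : IsAdjointClosedFor (hermForm 3 F q) K) {H : Subgroup (GL (Fin 3) F)} (hHK : H ≤ subalgebraNormalizer K)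
    (hHS : H ≤ SUg 3 F q) : Nat.card H ∣ 3 * (q ^ 2 - q + 1) := by
  classical
  have hfinG : Finite (GL (Fin 3) F) := inferInstance
  have hN : Cfsg.Agent.H912.NormAlg H K := fun _ hh a ha => (hHK hh a).mp ha
  let _ : Field K := (Cfsg.Agent.H907.isField_of hK).toField
  have hfd : Module.Finite F K := inferInstance
  have hKfin : Finite K := Module.finite_of_finite F
  have hgal : IsGalois F K := inferInstance
  let ψ : H →* (K ≃ₐ[F] K) := MonoidHom.mk' (fun h => Cfsg.Agent.H912.conjSub hN h) (by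
    intro a b
    apply AlgEquiv.ext
    intro x
    apply Subtype.ext
    rw [AlgEquiv.mul_apply, Cfsg.Agent.H912.conjSub_coe, Cfsg.Agent.H912.conjSub_coe, Cfsg.Agent.H912.conjSub_coe,
      Subgroup.coe_mul, _root_.mul_inv_rev, Units.val_mul, Units.val_mul]
    simp only [mul_assoc])
  have hker : ∀ g : H, g ∈ ψ.ker → ((g : GL (Fin 3) F) : Matrix (Fin 3) (Fin 3) F) ∈ K := by
    intro g hg
    apply mem_of_centralises hK
    intro k hk
    have h1 : Cfsg.Agent.H912.conjSub hN g = 1 := hg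
    have h2 := Cfsg.Agent.H912.conjSub_coe hN g ⟨k, hk⟩
    rw [h1] at h2
    have h3 : k = ((g : GL (Fin 3) F) : Matrix (Fin 3) (Fin 3) F) * k *
        (((g : GL (Fin 3) F)⁻¹ : GL (Fin 3) F) : Matrix (Fin 3) (Fin 3) F) := h2
    conv_rhs => rw [h3]
    rw [mul_assoc _ _ ((g : GL (Fin 3) F) : Matrix (Fin 3) (Fin 3) F), ← Units.val_mul, inv_mul_cancel, Units.val_one,
      mul_one]
  have hcard := ψ.ker.card_mul_index
  rw [Subgroup.index_ker] at hcard
  have h3 : Nat.card ψ.range ∣ 3 := by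
    have h4 : Nat.card (K ≃ₐ[F] K) = 3 := by
      rw [IsGalois.card_aut_eq_finrank, hK.finrank_eq]
    exact (Subgroup.card_subgroup_dvd_card _).trans (dvd_of_eq h4)
  have hcyc := Cfsg.Agent.H907.isCyclic_KU hK
  let j : ψ.ker →* Cfsg.Agent.H907.KU hK :=
    (H.subtype.comp ψ.ker.subtype).codRestrict _ (fun g => hker g g.2)
  have hj : Function.Injective j := fun a b hab =>
    Subtype.ext (Subtype.ext (congrArg (fun z : Cfsg.Agent.H907.KU hK => (z : GL (Fin 3) F)) hab))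
  have hcyc' : IsCyclic ψ.ker := isCyclic_of_injective j hj
  have h5 : Nat.card ψ.ker ∣ q ^ 2 - q + 1 := by
    rw [← IsCyclic.exponent_eq_card]
    apply Monoid.exponent_dvd_of_forall_pow_eq_one
    intro g
    have h6 := Cfsg.Agent.H907.pow_eq_one_of_mem_SU hF hK hadj (hker g g.2) (hHS (g : H).2)
    exact Subtype.ext (Subtype.ext h6)
  rw [← hcard, mul_comm 3]
  exact Nat.mul_dvd_mul h5 h3

theorem card_comap_pi (hF : Fintype.card F = q ^ 2) (M : Subgroup (PSU 3 F q)) :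
    Nat.card (M.comap (QuotientGroup.mk' (center (SU 3 F q)))) = Nat.gcd 3 (q + 1) * Nat.card M := by
  have hfin : Finite (PSU 3 F q) := Quotient.finite _
  have hfinS : Finite (SU 3 F q) := inferInstance
  have hs : Function.Surjective (QuotientGroup.mk' (center (SU 3 F q))) := QuotientGroup.mk'_surjective _
  have h1 := (M.comap (QuotientGroup.mk' (center (SU 3 F q)))).card_mul_index
  rw [Subgroup.index_comap_of_surjective _ hs] at h1
  have h2 := M.card_mul_index
  have h3 : Nat.gcd 3 (q + 1) * Nat.card (PSU 3 F q) = Nat.card (SU 3 F q) := by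
    rw [Cfsg.Agent.H394.SqPsu3.card_psu3 hF, card_su3 hF]
    ring
  rw [← h3, ← h2, ← mul_assoc] at h1
  exact Nat.eq_of_mul_eq_mul_right (Nat.pos_of_ne_zero index_ne_zero_of_finite) h1

/-- the geometric cases -/
theorem geom_cases (hF : Fintype.card F = q ^ 2) (hq : 3 ≤ q) {p n r : ℕ} (h : PN F p n q r)
    {H : Subgroup (GL (Fin 3) F)} (hH : IsMaximalIn (SUg 3 F q) H) {x : GL (Fin 3) F} (hxH : x ∈ H)
    (hX : x ^ r = 1) (hX1 : x ≠ 1) : InUnitaryResidualClass H ∨ (q ≠ 3 ∧ q ≠ 5 ∧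
      ∃ K : Subalgebra F (Matrix (Fin 3) (Fin 3) F), IsFieldSubalgebra 3 K ∧ IsAdjointClosedFor (hermForm 3 F q) K ∧
        H = subalgebraNormalizer K ⊓ SUg 3 F q) := by
  have hxM : ((x : GL (Fin 3) F) : Matrix (Fin 3) (Fin 3) F) ^ r = 1 := by
    rw [← Units.val_pow_eq_pow_val, hX, Units.val_one]
  have hxM1 : (x : Matrix (Fin 3) (Fin 3) F) ≠ 1 := by
    intro h8
    exact hX1 (Units.ext (by rw [h8, Units.val_one]))
  rcases Cfsg.Agent.S5778.result q hF hq H hH with ⟨W, hW0, hWs, he⟩ | ⟨W, hW0, hWn, hW3, he⟩ | ⟨-, D, hD, he⟩ |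
    ⟨h3, h5, K, hK, hKa, he⟩ | ⟨F₀, l, P, hl, hlo, hc, -, he⟩ | ⟨-, -, F₀, P, hc, -, he⟩ |
    ⟨p', R, hp', -, -, h11, -, hirr, -, h27, h3, he⟩ | hres
  · exfalso
    rw [he] at hxH
    refine h.no_sub hxM hxM1 hW0 ?_ (fun v hv => (hxH.1 v).1 hv)
    rintro rfl
    have h1 := hWs (Pi.single 0 1) trivial (Pi.single 0 1) trivial
    have hq0 : q ≠ 0 := by omega
    simp [hermForm, Fin.sum_univ_three, zero_pow hq0] at h1
  · exfalso
    rw [he] at hxH
    refine h.no_sub hxM hxM1 hW0 ?_ (fun v hv => (hxH.1 v).1 hv)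
    rintro rfl
    rw [finrank_top, Module.finrank_fin_fun] at hW3
    omega
  · exfalso
    rw [he] at hxH
    exact h.no_dec hX hX1 hD.decomp.finrank_eq hxH.1
  · exact Or.inr ⟨h3, h5, K, hK, hKa, he⟩
  · exfalso
    rw [he] at hxH
    exact h.no_subfield hX hX1 hl.two_le hc hxH.1
  · exfalso
    rw [he] at hxH
    exact h.no_subfield hX hX1 le_rfl hc hxH.1
  · exfalso
    rw [he] at hxH
    have h5 : 5 ≤ r := by have := h.ge; have := h.n0; omega
    exact h.no_scalar hX hX1 (symp_prime hirr h27 h3 hxH.1 h.pr h5 hX)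
  · exact Or.inl hres

/-- the primes `s ∣ q - 1` -/
theorem cyc_psu3_s (hF : Fintype.card F = q ^ 2) (hq : 3 ≤ q) {p n r : ℕ} (h : PN F p n q r) {s : ℕ} (hs : s.Prime)
    (hs2 : s ≠ 2) (hd : s ∣ q - 1) (hn : ¬ s ∣ n) : Cyc (PSU 3 F q) s := by
  have : Fact s.Prime := ⟨hs⟩
  have h3 : ¬ s ∣ Nat.gcd 3 (q + 1) := by
    intro h1
    have h2 : s ∣ (q + 1) - (q - 1) := Nat.dvd_sub (h1.trans (Nat.gcd_dvd_right _ _)) hd
    rw [show (q + 1) - (q - 1) = 2 by omega] at h2
    exact hs2 ((Nat.prime_dvd_prime_iff_eq hs Nat.prime_two).1 h2)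
  refine ⟨cycW_of_su (syl_s hF h hs2 hd) ?_, Or.inl fun h1 => ?_⟩
  · have h4 : s ∣ Nat.gcd 3 (q + 1) * Nat.card (PSU 3 F q) := by
      rw [Cfsg.Agent.H394.SqPsu3.card_psu3 hF, Cfsg.Agent.H394.SqPsl2.sub_mul_self (by omega)]
      exact ((hd.mul_left _).mul_right _).mul_left _
    exact (hs.dvd_mul.1 h4).resolve_left h3
  · rw [out_psu3 hF hq h.pp h.n0 h.qp] at h1
    rcases hs.dvd_mul.1 h1 with h2 | h2
    · exact h3 h2
    · rcases hs.dvd_mul.1 h2 with h4 | h4
      · exact hs2 ((Nat.prime_dvd_prime_iff_eq hs Nat.prime_two).1 h4)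
      · exact hn h4

/-- the primitive prime -/
theorem cyc_psu3_r (hF : Fintype.card F = q ^ 2) (hq : 3 ≤ q) {p n r : ℕ} (h : PN F p n q r) : Cyc (PSU 3 F q) r := by
  have : Fact r.Prime := ⟨h.pr⟩
  have hge := h.ge
  have hn := h.n0
  refine ⟨cycW_of_su (syl_r h) (psu3_orders hF h).1, Or.inl fun h1 => ?_⟩
  rw [out_psu3 hF hq h.pp h.n0 h.qp] at h1
  rcases h.pr.dvd_mul.1 h1 with h2 | h2
  · have := Nat.le_of_dvd (by norm_num) (h2.trans (Nat.gcd_dvd_left _ _))
    omega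
  · have := Nat.le_of_dvd (by omega) h2
    omega

/-- **`PSU₃(q)`**: a maximal subgroup is missed by a cyclic prime, with exceptions -/
theorem cgap_psu3 (hF : Fintype.card F = q ^ 2) (hq : 3 ≤ q) {M : Subgroup (PSU 3 F q)} (hM : IsCoatom M) :
    CGap (PSU 3 F q) M ∨
      (q ≠ 3 ∧ q ≠ 5 ∧ Nat.gcd 3 (q + 1) * Nat.card M ∣ 3 * (q ^ 2 - q + 1) ∧
        (∃ p n, p.Prime ∧ 1 ≤ n ∧ n ≤ 2 ∧ q = p ^ n) ∧ ∀ s : ℕ, s.Prime → s ∣ q - 1 → s = 2 ∨ s = 3) ∨
      (q.Prime ∧ q ≠ 5 ∧ Nat.gcd 3 (q + 1) * Nat.card M ∣ 1008 ∧ (q % 7 = 3 ∨ q % 7 = 5 ∨ q % 7 = 6) ∧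
        ∀ s : ℕ, s.Prime → s ∣ q - 1 → s = 2 ∨ s = 3) ∨
      (q = 5 ∧ 3 * Nat.card M ∣ 15120) := by
  by_contra hcon
  simp only [not_or] at hcon
  obtain ⟨hD, hE1, hE2, hE3⟩ := hcon
  have hfin : Finite (PSU 3 F q) := Quotient.finite _
  obtain ⟨p, n, r, h, hchar⟩ := exists_PN hF hq
  have hge := h.ge
  have hn := h.n0
  have hfr : Fact r.Prime := ⟨h.pr⟩
  have hrM : r ∣ Nat.card M := dvd_of_not_cGap hD (cyc_psu3_r hF hq h)
  have hsM : ∀ s : ℕ, s.Prime → s ≠ 2 → s ∣ q - 1 → ¬ s ∣ n → s ∣ Nat.card M := fun s hs hs2 hd hsn =>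
    dvd_of_not_cGap hD (cyc_psu3_s hF hq h hs hs2 hd hsn)
  set π := QuotientGroup.mk' (Subgroup.center (Cfsg.SU 3 F q)) with hπ
  have hπs : Function.Surjective π := QuotientGroup.mk'_surjective _
  set ι := suHom 3 F q with hι
  have hιi : Function.Injective ι := suHom_injective
  set H := (M.comap π).map ι with hHd
  have hH : IsMaximalIn (SUg 3 F q) H := by
    have := isMaximalIn_of_coatom π hπs ι hιi hM
    rwa [range_suHom] at this
  have hcH : Nat.card H = Nat.gcd 3 (q + 1) * Nat.card M := by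
    rw [hHd, Subgroup.card_map_of_injective hιi, hπ, card_comap_pi hF]
  have hfinS : Finite (Cfsg.SU 3 F q) := inferInstance
  have hrH : r ∣ Nat.card H := by rw [hcH]; exact hrM.mul_left _
  obtain ⟨x, hx⟩ := exists_prime_orderOf_dvd_card' (G := H) r hrH
  have hxo : orderOf (x : GL (Fin 3) F) = r := by rw [Subgroup.orderOf_coe, hx]
  rcases geom_cases hF hq h hH x.2 (by rw [← hxo]; exact pow_orderOf_eq_one _)
    (by intro h1; rw [h1, orderOf_one] at hxo; exact h.pr.one_lt.ne hxo) with hres | ⟨hq3, hq5, K, hK, hKa, he⟩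
  · -- the residual class
    obtain ⟨P, hP, hqp, hcases⟩ := Cfsg.Agent.S5779.result q hF hq H hH hres
    have hHS : H ≤ SUg 3 F q := hH.1.le
    have hdvdH : Nat.card H ∣ 3 * Nat.card (MulAut (PQ P)) := card_dvd hP hHS
    have hqp' : p = q := by
      have h1 : p ∣ q := by rw [h.qp]; exact dvd_pow_self p hn.ne'
      exact (Nat.prime_dvd_prime_iff_eq h.pp hqp).1 h1
    have hn1 : n = 1 := by
      have h1 := h.qp
      rw [← hqp'] at h1
      exact (Nat.pow_right_injective h.pp.two_le (show p ^ 1 = p ^ n by rw [pow_one]; exact h1)).symm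
    rcases hcases with ⟨⟨e⟩, hq5, hq7⟩ | ⟨⟨e⟩, -⟩ | ⟨⟨e⟩, hq5⟩
    · have h1008 : Nat.card H ∣ 1008 := card_dvd_l32 hP hHS ⟨e⟩
      refine hE2 ⟨hqp, hq5, hcH ▸ h1008, hq7, fun s hs hsd => ?_⟩
      by_cases hs2 : s = 2
      · exact Or.inl hs2
      right
      have h1 : s ∣ Nat.card M := hsM s hs hs2 hsd (by
        rw [hn1]; exact fun h1 => hs.one_lt.ne' (Nat.dvd_one.1 h1))
      have h2 : s ∣ 2 ^ 4 * 3 ^ 2 * 7 := by norm_num; exact (h1.mul_left _).trans (hcH ▸ h1008)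
      rcases hs.dvd_mul.1 h2 with h3 | h3
      · rcases hs.dvd_mul.1 h3 with h4 | h4
        · exact absurd ((Nat.prime_dvd_prime_iff_eq hs Nat.prime_two).1 (hs.dvd_of_dvd_pow h4)) hs2
        · exact (Nat.prime_dvd_prime_iff_eq hs Nat.prime_three).1 (hs.dvd_of_dvd_pow h4)
      · have h4 : s = 7 := (Nat.prime_dvd_prime_iff_eq hs (by norm_num)).1 h3
        rw [h4] at hsd
        omega
    · have h4320 : Nat.card H ∣ 4320 := card_dvd_a6 hP hHS ⟨e⟩
      have h2 : r ∣ 2 ^ 5 * 3 ^ 3 * 5 := by norm_num; exact hrH.trans h4320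
      rcases h.pr.dvd_mul.1 h2 with h3 | h3
      · rcases h.pr.dvd_mul.1 h3 with h4 | h4
        · have := Nat.le_of_dvd (by norm_num) (h.pr.dvd_of_dvd_pow h4); omega
        · have := Nat.le_of_dvd (by norm_num) (h.pr.dvd_of_dvd_pow h4); omega
      · have := Nat.le_of_dvd (by norm_num) h3; omega
    · rw [Nat.card_congr (MulAut.congr e).toEquiv] at hdvdH
      have h1 := hdvdH.trans (Nat.mul_dvd_mul_left 3 card_aut_a7)
      rw [hcH] at h1
      have h2 : Nat.gcd 3 (q + 1) = 3 := by rw [hq5]; norm_num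
      rw [h2] at h1
      exact hE3 ⟨hq5, h1⟩
  · -- the cubic field
    have hord : Nat.card H ∣ 3 * (q ^ 2 - q + 1) :=
      card_field hF hK hKa (he.le.trans inf_le_left) (he.le.trans inf_le_right)
    have hs3 : ∀ s : ℕ, s.Prime → s ∣ q - 1 → s ∣ Nat.card M → s = 3 := by
      intro s hs hsd hsc
      have h1 : s ∣ 3 * (q ^ 2 - q + 1) := (hcH ▸ hsc.mul_left _ : s ∣ Nat.card H).trans hord
      rcases hs.dvd_mul.1 h1 with h2 | h2
      · exact (Nat.prime_dvd_prime_iff_eq hs Nat.prime_three).1 h2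
      · exfalso
        have h3 : q ^ 2 - q = (q - 1) * q := by rw [Nat.sub_mul, one_mul, pow_two]
        rw [h3] at h2
        exact hs.one_lt.ne' (Nat.dvd_one.1 ((Nat.dvd_add_right (hsd.mul_right _)).1 h2))
    have hn2 : n ≤ 2 := by
      by_contra h3
      by_cases h64 : p = 2 ∧ n = 6
      · obtain ⟨h1, h2⟩ := h64
        have hq64 : q = 64 := by rw [h.qp, h1, h2]; norm_num
        have h4 := hs3 7 (by norm_num) (by rw [hq64]; norm_num)
          (hsM 7 (by norm_num) (by norm_num) (by rw [hq64]; norm_num) (by rw [h2]; norm_num))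
        omega
      · obtain ⟨s, hs, hs1, hs2, hs4⟩ := Cfsg.Agent.Lib.Zsigmondy.exists_primitive (a := p) (n := n) h.pp.two_le
          (by omega) (by omega) h64
        have h5 := Nat.le_of_dvd (by have := hs.two_le; omega) hs2
        have h6 : s ∣ q - 1 := by rw [h.qp]; exact (hs1 _).2 dvd_rfl
        have h7 := hs3 s hs h6 (hsM s hs (by omega) h6 (fun h8 => by
          have := Nat.le_of_dvd hn h8
          have := hs.two_le
          omega))
        omega
    refine hE1 ⟨hq3, hq5, hcH ▸ hord, ⟨p, n, h.pp, hn, hn2, h.qp⟩, fun s hs hsd => ?_⟩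
    by_cases hs2 : s = 2
    · exact Or.inl hs2
    · right
      refine hs3 s hs hsd (hsM s hs hs2 hsd fun h8 => ?_)
      have h9 := Nat.le_of_dvd hn h8
      have := hs.two_le
      omega

end

end Cfsg.Agent.H947.Cyc
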