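import Cfsg.Agent.H947.Cyc.RowPsl2
import Cfsg.Agent.H947.Cyc.Psu3
import Cfsg.Agent.H794.PsuNotAb

/-!
# Rows of S3561 (helper947): `PSU₃(q)`
-/

set_option autoImplicit false
set_option linter.style.haveILetI false

namespace Cfsg.Agent.H947.Cyc

open Subgroup Cfsg Cfsg.Agent.H899.CG Cfsg.Agent.H57.BG Cfsg.Agent.H394.SqPsu3

universe u

theorem num_torus {q : ℕ} (hq : 3 ≤ q) : 36 * (q ^ 2 - q + 1) ^ 2 < q ^ 3 * ((q ^ 2 - 1) * (q ^ 3 + 1)) := by
  obtain ⟨x, rfl⟩ : ∃ x, q = x + 3 := ⟨q - 3, by omega⟩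
  have h1 : (x + 3) ^ 2 - (x + 3) + 1 = x ^ 2 + 5 * x + 7 := by
    have : (x + 3) ^ 2 = x ^ 2 + 6 * x + 9 := by ring
    omega
  have h2 : (x + 3) ^ 2 - 1 = x ^ 2 + 6 * x + 8 := by
    have : (x + 3) ^ 2 = x ^ 2 + 6 * x + 9 := by ring
    omega
  rw [h1, h2]
  have h3 : (x + 3) ^ 3 + 1 = (x + 4) * (x ^ 2 + 5 * x + 7) := by ring
  rw [h3]
  have h4 : 36 * (x ^ 2 + 5 * x + 7) < (x + 3) ^ 3 * ((x ^ 2 + 6 * x + 8) * (x + 4)) := by
    have : (x + 3) ^ 3 * ((x ^ 2 + 6 * x + 8) * (x + 4)) =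
      x ^ 6 + 19 * x ^ 5 + 149 * x ^ 4 + 617 * x ^ 3 + 1422 * x ^ 2 + 1728 * x + 864 := by ring
    rw [this]
    omega
  calc 36 * (x ^ 2 + 5 * x + 7) ^ 2 = 36 * (x ^ 2 + 5 * x + 7) * (x ^ 2 + 5 * x + 7) := by ring
    _ < (x + 3) ^ 3 * ((x ^ 2 + 6 * x + 8) * (x + 4)) * (x ^ 2 + 5 * x + 7) :=
      Nat.mul_lt_mul_of_pos_right h4 (by positivity)
    _ = _ := by ring

variable {F : Type u} [Field F] [Fintype F] {q : ℕ}

/-- the numerical form of `|T : L| ^ 2 ≤ |T| |Out T|` -/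
theorem num_reg (hF : Fintype.card F = q ^ 2) (hq : 3 ≤ q) {p n : ℕ} (hp : p.Prime) (hn : 1 ≤ n) (hqp : q = p ^ n)
    {A : Subgroup (MulAut (PSU 3 F q))} {L M : Subgroup (PSU 3 F q)} (h : Reg A L) (hLM : L ≤ M) {k : ℕ} (hk : 0 < k)
    (hM : Nat.gcd 3 (q + 1) * Nat.card M ∣ k) : q ^ 3 * ((q ^ 2 - 1) * (q ^ 3 + 1)) ≤ k ^ 2 * (2 * n) := by
  have hfin : Finite (PSU 3 F q) := Quotient.finite _
  obtain ⟨hs, hc⟩ := psu3_facts hF hq
  obtain ⟨d, hd⟩ : ∃ d, Nat.gcd 3 (q + 1) = d := ⟨_, rfl⟩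
  have hd0 : 0 < d := by
    rw [← hd]
    exact Nat.gcd_pos_of_pos_left _ (by norm_num)
  have h1 := h.index_sq_le hc
  have h2 : (Inn (PSU 3 F q)).index = d * (2 * n) := by
    rw [← hd]
    exact out_psu3 hF hq hp hn hqp
  rw [h2] at h1
  have h3 := L.card_mul_index
  have h4 : d * Nat.card L ≤ k := by
    have h5 : Nat.card L ≤ Nat.card M := Subgroup.card_le_of_le hLM
    rw [hd] at hM
    exact (Nat.mul_le_mul_left d h5).trans (Nat.le_of_dvd hk hM)
  rw [← card_psu3 hF, hd]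
  have hT : 0 < Nat.card (PSU 3 F q) := Nat.card_pos
  have h6 : Nat.card (PSU 3 F q) * Nat.card (PSU 3 F q) ≤ Nat.card (PSU 3 F q) * (Nat.card L ^ 2 * (d * (2 * n))) := by
    calc Nat.card (PSU 3 F q) * Nat.card (PSU 3 F q) = Nat.card L ^ 2 * L.index ^ 2 := by rw [← h3]; ring
      _ ≤ Nat.card L ^ 2 * (Nat.card (PSU 3 F q) * (d * (2 * n))) := Nat.mul_le_mul_left _ h1
      _ = _ := by ring
  have h7 := Nat.le_of_mul_le_mul_left h6 hT
  calc d * Nat.card (PSU 3 F q) ≤ d * (Nat.card L ^ 2 * (d * (2 * n))) := Nat.mul_le_mul_left _ h7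
    _ = (d * Nat.card L) ^ 2 * (2 * n) := by ring
    _ ≤ k ^ 2 * (2 * n) := Nat.mul_le_mul_right _ (Nat.pow_le_pow_left h4 2)

theorem psu3_na (hF : Fintype.card F = q ^ 2) {p : ℕ} [Fact p.Prime] [CharP F p] (P : Sylow p (PSU 3 F q)) :
    ∃ x ∈ (P : Subgroup (PSU 3 F q)), ∃ y ∈ (P : Subgroup (PSU 3 F q)), x * y ≠ y * x := by
  have hfin : Finite (PSU 3 F q) := Quotient.finite _
  obtain ⟨R, hR, a, ha, b, hb, hab⟩ := Cfsg.Agent.H794.PsuNotAb.exists_pair (p := p) (q := q) (n := 3) hF le_rfl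
  obtain ⟨Q, hQ⟩ := hR.exists_le_sylow
  obtain ⟨g, hg⟩ := MulAction.exists_smul_eq (PSU 3 F q) Q P
  have h1 : ∀ x ∈ R, g * x * g⁻¹ ∈ (P : Subgroup (PSU 3 F q)) := by
    intro x hx
    rw [← hg]
    exact ⟨x, hQ hx, rfl⟩
  refine ⟨_, h1 a ha, _, h1 b hb, fun h2 => hab ?_⟩
  have h3 : g * (a * b) * g⁻¹ = g * (b * a) * g⁻¹ := by
    calc g * (a * b) * g⁻¹ = (g * a * g⁻¹) * (g * b * g⁻¹) := by group
      _ = (g * b * g⁻¹) * (g * a * g⁻¹) := h2
      _ = _ := by group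
  exact mul_left_cancel (mul_right_cancel h3)

/-- the special cases `q = 3`, `q = 5` -/
theorem psu3_prime (hF : Fintype.card F = q ^ 2) (hq : 3 ≤ q) (hqp : q.Prime) {h : ℕ}
    (hcard : Nat.card (PSU 3 F q) = q ^ 3 * ((q ^ 3 + 1) * h)) (hqh : ¬ q ∣ h) (hh : h < q ^ 3) {A : Subgroup (PSU 3 F q)}
    (hA : ∀ x ∈ A, ∀ y ∈ A, x * y = y * x) (hA2 : q ^ 2 ∣ Nat.card A) {r : ℕ} (hr : r.Prime) (hrq : r ≠ q)
    (hrA : r ∣ Nat.card A) : False := by
  have hfin : Finite (PSU 3 F q) := Quotient.finite _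
  obtain ⟨hs, hc⟩ := psu3_facts hF hq
  obtain ⟨p, N, hp, hchar, hN0, hN⟩ := exists_char F
  have hpq : p = q := char_eq hqp hN hF two_ne_zero
  subst hpq
  have hTI := Cfsg.Agent.H394.SqPsu3.inf_of_ti (ti_psu3 (p := p) hF)
  have hP : ∀ P : Sylow p (PSU 3 F p), Nat.card P = p ^ 3 := by
    intro P
    refine card_syl P (hcard ▸ dvd_mul_right _ _) ?_
    intro h1
    rw [hcard, pow_succ p 3] at h1
    have h2 := Nat.dvd_of_mul_dvd_mul_left (pow_pos hp.out.pos 3) h1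
    rcases hp.out.dvd_mul.1 h2 with h3 | h3
    · exact hp.out.one_lt.ne' (Nat.dvd_one.1 ((Nat.dvd_add_right (dvd_pow_self p (by norm_num))).1 h3))
    · exact hqh h3
  obtain ⟨P⟩ : Nonempty (Sylow p (PSU 3 F p)) := inferInstance
  have hcount : Nat.card (Sylow p (PSU 3 F p)) = 1 + Nat.card P := by
    refine Cfsg.Agent.H394.SqTI.card_sylow_eq hTI P (h := h) ?_ ?_ ?_
    · rw [hP]; exact dvd_pow_self p (by norm_num)
    · rw [hP]; exact hcard
    · rw [hP]
      exact hh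
  exact false_of_abelian hc hTI hP (by rw [hcount, hP, add_comm]) (psu3_na hF) hA hA2 hr hrq hrA

/-- **`PSU₃(q)`** -/
theorem row_psu3 (hF : Fintype.card F = q ^ 2) (hq : 3 ≤ q) : Row (PSU 3 F q) := by
  intro A L h
  have hfin : Finite (PSU 3 F q) := Quotient.finite _
  obtain ⟨hs, hc⟩ := psu3_facts hF hq
  have hcard := card_psu3 hF
  by_cases hq3 : q = 3
  · subst hq3
    rw [show Nat.gcd 3 (3 + 1) = 1 by decide, one_mul, show 3 ^ 3 * ((3 ^ 2 - 1) * (3 ^ 3 + 1)) = 6048 by norm_num] at hcard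
    have h36 : 36 ∣ L.index := by
      refine tw_primes h hcard fun r hr hd => ?_
      have h1 : r ∣ 6048 := (dvd_pow_self r two_ne_zero).trans hd
      rw [show 6048 = 2 ^ 5 * (3 ^ 3 * 7) by norm_num, hr.dvd_mul, hr.dvd_mul] at h1
      rcases h1 with h1 | h1 | h1
      · exact Or.inl ((Nat.prime_dvd_prime_iff_eq hr Nat.prime_two).1 (hr.dvd_of_dvd_pow h1))
      · exact Or.inr ((Nat.prime_dvd_prime_iff_eq hr Nat.prime_three).1 (hr.dvd_of_dvd_pow h1))
      · rw [(Nat.prime_dvd_prime_iff_eq hr (by norm_num)).1 h1] at hd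
        norm_num at hd
    have hout : (Inn (PSU 3 F 3)).index = 2 := out_psu3 (n := 1) hF le_rfl Nat.prime_three le_rfl (by norm_num)
    have h1 := h36.trans (h.index_dvd hc)
    rw [hout] at h1
    have h2 : 18 ∣ Nat.card (inner A) := by
      have : 18 * 2 ∣ Nat.card (inner A) * 2 := h1
      exact Nat.dvd_of_mul_dvd_mul_right (by norm_num) this
    exact psu3_prime hF le_rfl Nat.prime_three (h := 8) (by rw [hcard]; norm_num) (by norm_num) (by norm_num)
      (fun x hx y hy => h.inner_comm hc hx hy) ((by norm_num : 3 ^ 2 ∣ 18).trans h2) Nat.prime_two (by norm_num)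
      ((by norm_num : 2 ∣ 18).trans h2)
  by_cases hq5 : q = 5
  · subst hq5
    rw [show Nat.gcd 3 (5 + 1) = 3 by decide, show 5 ^ 3 * ((5 ^ 2 - 1) * (5 ^ 3 + 1)) = 3 * 126000 by norm_num] at hcard
    replace hcard := Nat.eq_of_mul_eq_mul_left (by norm_num) hcard
    obtain ⟨M, hM, hLM, hg⟩ := h.exists_coatom hc
    have hM5 : 3 * Nat.card M ∣ 15120 := by
      rcases cgap_psu3 hF hq hM with h1 | ⟨-, h1, -⟩ | ⟨-, h1, -⟩ | ⟨-, h1⟩
      · exact absurd h1 hg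
      · exact absurd rfl h1
      · exact absurd rfl h1
      · exact h1
    have hM5' : Nat.card M ∣ 5040 := by
      have : 3 * Nat.card M ∣ 3 * 5040 := hM5
      exact Nat.dvd_of_mul_dvd_mul_left (by norm_num) this
    have h25 : 25 ∣ L.index := by
      refine dvd_trans ?_ (Subgroup.index_dvd_of_le hLM)
      obtain ⟨c, hc'⟩ := hM5'
      have h1 := M.card_mul_index
      rw [hcard] at h1
      have h2 : Nat.card M * M.index = Nat.card M * (25 * c) := by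
        rw [h1, mul_left_comm, ← hc']
        norm_num
      have h3 := Nat.eq_of_mul_eq_mul_left Nat.card_pos h2
      rw [h3]
      exact dvd_mul_right _ _
    have hout : (Inn (PSU 3 F 5)).index = 6 := out_psu3 (n := 1) hF (by norm_num) Nat.prime_five le_rfl (by norm_num)
    have hind := h.index_dvd hc
    rw [hout] at hind
    have h5A : 5 ^ 2 ∣ Nat.card (inner A) := by
      have h1 : 5 ^ 2 ∣ Nat.card (inner A) * 6 := h25.trans hind
      exact Nat.Coprime.dvd_of_dvd_mul_right (by norm_num) h1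
    -- another prime
    have h23 : 4 ∣ L.index ∨ 9 ∣ L.index := by
      obtain ⟨r, s, hr, hs', hrs, hr2, hs2⟩ := h.exists_two_primes
      have key : ∀ t : ℕ, t.Prime → t ≠ 5 → t ^ 2 ∣ L.index → 4 ∣ L.index ∨ 9 ∣ L.index := by
        intro t ht ht5 htd
        have h1 : t ∣ 126000 := by
          rw [← hcard]
          exact ((dvd_pow_self t two_ne_zero).trans htd).trans L.index_dvd_card
        rw [show 126000 = 2 ^ 4 * (3 ^ 2 * (5 ^ 3 * 7)) by norm_num, ht.dvd_mul, ht.dvd_mul, ht.dvd_mul] at h1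
        rcases h1 with h1 | h1 | h1 | h1
        · have h2 := (Nat.prime_dvd_prime_iff_eq ht Nat.prime_two).1 (ht.dvd_of_dvd_pow h1)
          rw [h2] at htd
          exact Or.inl htd
        · have h2 := (Nat.prime_dvd_prime_iff_eq ht Nat.prime_three).1 (ht.dvd_of_dvd_pow h1)
          rw [h2] at htd
          exact Or.inr htd
        · exact absurd ((Nat.prime_dvd_prime_iff_eq ht Nat.prime_five).1 (ht.dvd_of_dvd_pow h1)) ht5
        · exfalso
          have h2 := (Nat.prime_dvd_prime_iff_eq ht (by norm_num)).1 h1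
          have h3 := htd.trans L.index_dvd_card
          rw [h2, hcard] at h3
          norm_num at h3
      by_cases hr5 : r = 5
      · exact key s hs' (fun h => hrs (hr5.trans h.symm)) hs2
      · exact key r hr hr5 hr2
    obtain ⟨r, hr, hr5, hrA⟩ : ∃ r : ℕ, r.Prime ∧ r ≠ 5 ∧ r ∣ Nat.card (inner A) := by
      rcases h23 with h1 | h1
      · have h2 : 2 * 2 ∣ Nat.card (inner A) * 3 * 2 := by
          rw [mul_assoc]
          exact h1.trans hind
        have h3 := Nat.dvd_of_mul_dvd_mul_right (by norm_num) h2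
        exact ⟨2, Nat.prime_two, by norm_num, Nat.Coprime.dvd_of_dvd_mul_right (by norm_num) h3⟩
      · have h2 : 3 * 3 ∣ Nat.card (inner A) * 2 * 3 := by
          rw [mul_assoc]
          exact h1.trans hind
        have h3 := Nat.dvd_of_mul_dvd_mul_right (by norm_num) h2
        exact ⟨3, Nat.prime_three, by norm_num, Nat.Coprime.dvd_of_dvd_mul_right (by norm_num) h3⟩
    exact psu3_prime hF (by norm_num) Nat.prime_five (h := 8) (by rw [hcard]; norm_num) (by norm_num) (by norm_num)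
      (fun x hx y hy => h.inner_comm hc hx hy) h5A hr hr5 hrA
  obtain ⟨M, hM, hLM, hg⟩ := h.exists_coatom hc
  rcases cgap_psu3 hF hq hM with h1 | ⟨-, -, h1, ⟨p, n, hp, hn, hn2, hqp⟩, -⟩ | ⟨hqp, -, h1, h7, -⟩ | ⟨h1, -⟩
  · exact hg h1
  · have h2 := num_reg hF hq hp hn hqp h hLM (by positivity) h1
    have h3 := num_torus hq
    have h4 : (3 * (q ^ 2 - q + 1)) ^ 2 * (2 * n) ≤ 36 * (q ^ 2 - q + 1) ^ 2 := by
      calc (3 * (q ^ 2 - q + 1)) ^ 2 * (2 * n) ≤ (3 * (q ^ 2 - q + 1)) ^ 2 * (2 * 2) :=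
            Nat.mul_le_mul_left _ (Nat.mul_le_mul_left _ hn2)
        _ = _ := by ring
    omega
  · have h2 := num_reg hF hq hqp le_rfl (pow_one q).symm h hLM (by norm_num) h1
    have hq8 : 8 ≤ q := by
      by_contra hcon
      have h3 : q = 4 ∨ q = 6 ∨ q = 7 := by omega
      rcases h3 with rfl | rfl | rfl
      · exact absurd hqp (by norm_num)
      · exact absurd hqp (by norm_num)
      · omega
    have h3 : 8 ^ 3 * (63 * (8 ^ 3 + 1)) ≤ q ^ 3 * ((q ^ 2 - 1) * (q ^ 3 + 1)) := by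
      have h4 := Nat.pow_le_pow_left hq8 3
      have h5 := Nat.pow_le_pow_left hq8 2
      exact Nat.mul_le_mul h4 (Nat.mul_le_mul (by omega) (by omega))
    omega
  · exact hq5 h1

end Cfsg.Agent.H947.Cyc
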